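import Cfsg.Agent.Lib.ThompsonWielandt.CosetRep
import Cfsg.Agent.Lib.Layer.CharP
import Cfsg.Agent.Lib.ZJ.Centers
import Cfsg.Agent.S2858

/-!
# A maximal subgroup meeting a conjugate in a Sylow 2-subgroup of index 3
-/

set_option autoImplicit false
set_option linter.unusedSectionVars false

namespace CfsgLib.ThompsonWielandt

open Cfsg Equiv

variable {G : Type*} [Group G] [Finite G]

theorem equiv_dihedralGroup {H : Type*} [Group H] [Finite H] {n : ℕ} [NeZero n]
    (hc : Nat.card H = 2 * n) {s x : H} (hs : orderOf s = n) (hx : x * x = 1)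
    (hxs : x ∉ Subgroup.zpowers s) (hinv : x * s * x⁻¹ = s⁻¹) : Nonempty (H ≃* DihedralGroup n) := by
  have hsn : s ^ n = 1 := hs ▸ pow_orderOf_eq_one s
  have hx' : x⁻¹ = x := inv_eq_of_mul_eq_one_right hx
  let ρ : ZMod n → H := fun i => s ^ i.val
  have hadd : ∀ i j, ρ (i + j) = ρ i * ρ j := by
    intro i j
    show s ^ (i + j).val = s ^ i.val * s ^ j.val
    rw [← pow_add, pow_eq_pow_iff_modEq, hs, ZMod.val_add]
    exact Nat.mod_modEq _ _
  have hρ0 : ρ 0 = 1 := by show s ^ (0 : ZMod n).val = 1; rw [ZMod.val_zero, pow_zero]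
  have hρn : ∀ i, ρ (-i) = (ρ i)⁻¹ := fun i => eq_inv_of_mul_eq_one_left (by
    rw [← hadd, neg_add_cancel, hρ0])
  have hρx : ∀ i, ρ i * x = x * ρ (-i) := by
    intro i
    have h1 : x * ρ i * x⁻¹ = (ρ i)⁻¹ := by
      show x * s ^ i.val * x⁻¹ = (s ^ i.val)⁻¹
      rw [← conj_pow, hinv, inv_pow]
    rw [hρn, ← h1, hx']
    calc ρ i * x = (x * x) * ρ i * x := by rw [hx, one_mul]
      _ = x * (x * ρ i * x) := by simp only [mul_assoc]
  let f : DihedralGroup n → H := fun d => match d with
    | DihedralGroup.r i => ρ i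
    | DihedralGroup.sr i => x * ρ i
  have hf : ∀ a b, f (a * b) = f a * f b := by
    rintro (i | i) (j | j)
    · exact hadd i j
    · show x * ρ (j - i) = ρ i * (x * ρ j)
      rw [← mul_assoc, hρx, mul_assoc, ← hadd, neg_add_eq_sub]
    · show x * ρ (i + j) = x * ρ i * ρ j
      rw [hadd, mul_assoc]
    · show ρ (j - i) = x * ρ i * (x * ρ j)
      calc ρ (j - i) = (x * x) * (ρ (-i) * ρ j) := by rw [hx, one_mul, ← hadd, neg_add_eq_sub]
        _ = x * (x * ρ (-i)) * ρ j := by simp only [mul_assoc]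
        _ = x * (ρ i * x) * ρ j := by rw [hρx]
        _ = x * ρ i * (x * ρ j) := by simp only [mul_assoc]
  let F : DihedralGroup n →* H := MonoidHom.mk' f hf
  have hinj : Function.Injective F := by
    rw [← MonoidHom.ker_eq_bot_iff, Subgroup.eq_bot_iff_forall]
    rintro (i | i) hi
    · have h1 : s ^ i.val = 1 := hi
      rw [← orderOf_dvd_iff_pow_eq_one, hs] at h1
      rw [(ZMod.val_eq_zero i).1 (Nat.eq_zero_of_dvd_of_lt h1 (ZMod.val_lt i)), DihedralGroup.r_zero]
    · have h1 : x * s ^ i.val = 1 := hi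
      exact absurd (eq_inv_of_mul_eq_one_left h1 ▸
        inv_mem (pow_mem (Subgroup.mem_zpowers s) _)) hxs
  exact ⟨(MulEquiv.ofBijective F
    ((Nat.bijective_iff_injective_and_card _).2 ⟨hinj, by rw [DihedralGroup.nat_card, hc]⟩)).symm⟩

theorem pCore_le_of_index {M J : Subgroup G} (hle : J ≤ M) (hJ : IsPGroup 2 J)
    (h3 : J.relIndex M = 3) : pCore 2 M ≤ (J.subgroupOf M).normalCore := by
  haveI := CfsgLib.Fitting.pCore_normal (G := M) 2
  refine Subgroup.normal_le_normalCore.2 ?_
  have hJ' : IsPGroup 2 (J.subgroupOf M) := hJ.of_equiv (Subgroup.subgroupOfEquivOfLe hle).symm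
  haveI : Fact (Nat.Prime 2) := ⟨Nat.prime_two⟩
  have hsup : IsPGroup 2 (pCore 2 M ⊔ J.subgroupOf M : Subgroup M) := by
    rw [sup_comm]
    refine IsPGroup.to_sup_of_normal_right' hJ' (CfsgLib.Fitting.pCore_isPGroup 2) ?_
    exact le_top.trans (Subgroup.normalizer_eq_top_iff.2 inferInstance).ge
  have hdvd := Subgroup.index_dvd_of_le (le_sup_right : J.subgroupOf M ≤ pCore 2 M ⊔ J.subgroupOf M)
  have h3' : (J.subgroupOf M).index = 3 := h3
  rw [h3'] at hdvd
  rcases Nat.prime_three.eq_one_or_self_of_dvd _ hdvd with h | h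
  · exfalso
    rw [Subgroup.index_eq_one] at h
    rw [h] at hsup
    obtain ⟨k, hk⟩ := IsPGroup.iff_card.1 hsup
    have hcard := Subgroup.card_mul_index (J.subgroupOf M)
    rw [Subgroup.card_top] at hk
    rw [h3', hk] at hcard
    have h32 : 3 ∣ 2 ^ k := ⟨_, by rw [← hcard, mul_comm]⟩
    exact absurd (Nat.prime_three.dvd_of_dvd_pow h32) (by decide)
  · have hrel := Subgroup.relIndex_mul_index (le_sup_right : J.subgroupOf M ≤ pCore 2 M ⊔ J.subgroupOf M)
    rw [h3', h] at hrel
    exact le_sup_left.trans (Subgroup.relIndex_eq_one.1 (Nat.eq_of_mul_eq_mul_right (show 0 < 3 by norm_num) (hrel.trans (one_mul 3).symm)))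

/-- Everything the amalgam theorem needs about one of the two subgroups. -/
theorem cubic_facts {M J : Subgroup G} (hle : J ≤ M) (hJ : IsPGroup 2 J) (h3 : J.relIndex M = 3)
    (hJn : ¬ (J.subgroupOf M).Normal)
    (hC : Subgroup.centralizer ((J.subgroupOf M).normalCore : Set M) ≤ (J.subgroupOf M).normalCore) :
    M ⊓ Subgroup.centralizer (pCoreOf 2 M : Set G) ≤ pCoreOf 2 M ∧
      (∃ S : Sylow 2 M, (S : Subgroup M) = J.subgroupOf M) ∧
      Nonempty (M ⧸ pCore 2 M ≃* Perm (Fin 3)) := by
  classical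
  haveI : Fact (Nat.Prime 2) := ⟨Nat.prime_two⟩
  have hJ' : IsPGroup 2 (J.subgroupOf M) := hJ.of_equiv (Subgroup.subgroupOfEquivOfLe hle).symm
  have hcore : pCore 2 M = (J.subgroupOf M).normalCore :=
    le_antisymm (pCore_le_of_index hle hJ h3)
      (CfsgLib.Fitting.le_pCore inferInstance (hJ'.to_le (Subgroup.normalCore_le _)))
  obtain ⟨f, o, hker, -⟩ := exists_coset_rep (J.subgroupOf M) 3 h3
  have hrange : f.range = ⊤ := by
    refine Subgroup.eq_top_of_card_eq _ ?_
    have h1 := Subgroup.relIndex_mul_index (Subgroup.normalCore_le (J.subgroupOf M))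
    have h2 := relIndex_normalCore_dvd_factorial (J.subgroupOf M)
    have h3' : (J.subgroupOf M).index = 3 := h3
    rw [h3'] at h1 h2
    rw [← Subgroup.index_ker, hker, ← h1, Nat.card_perm, Nat.card_fin]
    rcases (Nat.dvd_prime Nat.prime_two).1 h2 with h | h
    · exfalso
      refine hJn ?_
      rw [← le_antisymm (Subgroup.normalCore_le _) (Subgroup.relIndex_eq_one.1 h)]
      infer_instance
    · rw [h]; rfl
  refine ⟨?_, ⟨hJ'.toSylow ?_, rfl⟩, ?_⟩
  · rintro x ⟨hxM, hxc⟩
    refine ⟨⟨x, hxM⟩, ?_, rfl⟩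
    refine hcore.symm.le (hC (Subgroup.mem_centralizer_iff.2 fun y hy => Subtype.ext ?_))
    exact Subgroup.mem_centralizer_iff.1 hxc y ⟨y, hcore.symm.le hy, rfl⟩
  · show ¬ 2 ∣ (J.subgroupOf M).index
    rw [show (J.subgroupOf M).index = 3 from h3]
    decide
  · haveI := CfsgLib.Fitting.pCore_normal (G := M) 2
    exact ⟨((QuotientGroup.quotientMulEquivOfEq (hcore.trans hker.symm)).trans
      (QuotientGroup.quotientKerEquivRange f)).trans
      ((MulEquiv.subgroupCongr hrange).trans Subgroup.topEquiv)⟩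

theorem map_subgroupOf_equiv {M M' J J' : Subgroup G} (e : M ≃* M') (g : G)
    (he : ∀ m : M, (e m : G) = g * m * g⁻¹) (hJ : J.map (MulAut.conj g).toMonoidHom = J') :
    (J.subgroupOf M).map e.toMonoidHom = J'.subgroupOf M' := by
  ext y
  constructor
  · rintro ⟨m, hm, rfl⟩
    show (e m : G) ∈ J'
    rw [he, ← hJ]
    exact ⟨m, hm, rfl⟩
  · intro hy
    have hy' : (y : G) ∈ J' := hy
    rw [← hJ] at hy'
    obtain ⟨z, hz, hzy⟩ := hy'
    refine ⟨e.symm y, ?_, e.apply_symm_apply y⟩
    have h1 := he (e.symm y)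
    rw [e.apply_symm_apply] at h1
    have h2 : z = (e.symm y : G) := (MulAut.conj g).injective (hzy.trans h1)
    show (e.symm y : G) ∈ J
    rwa [← h2]

theorem map_normalCore_equiv {A B : Type*} [Group A] [Group B] (e : A ≃* B) (H : Subgroup A) :
    H.normalCore.map e.toMonoidHom = (H.map e.toMonoidHom).normalCore := by
  refine le_antisymm ?_ ?_
  · haveI := (inferInstance : H.normalCore.Normal).map e.toMonoidHom e.surjective
    exact Subgroup.normal_le_normalCore.2 (Subgroup.map_mono (Subgroup.normalCore_le H))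
  · haveI := (inferInstance : (H.map e.toMonoidHom).normalCore.Normal).map e.symm.toMonoidHom
      e.symm.surjective
    have h1 : (H.map e.toMonoidHom).normalCore.map e.symm.toMonoidHom ≤ H.normalCore := by
      refine Subgroup.normal_le_normalCore.2 ?_
      rintro _ ⟨y, hy, rfl⟩
      obtain ⟨x, hx, rfl⟩ := Subgroup.normalCore_le _ hy
      show e.symm (e x) ∈ H
      rwa [e.symm_apply_apply]
    intro y hy
    exact ⟨e.symm y, h1 ⟨y, hy, rfl⟩, e.apply_symm_apply y⟩

/-- **Sims**: the structure of `M`. -/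
theorem cubic_structure {M : Subgroup G} {g : G} (hmax : IsCoatom M) (hcore : M.normalCore = ⊥)
    (hne : M.map (MulAut.conj g).toMonoidHom ≠ M)
    (hg : g ∈ Subgroup.normalizer ((M ⊓ M.map (MulAut.conj g).toMonoidHom : Subgroup G) : Set G))
    (h3 : (M ⊓ M.map (MulAut.conj g).toMonoidHom).relIndex M = 3)
    (hJ : IsPGroup 2 (M ⊓ M.map (MulAut.conj g).toMonoidHom : Subgroup G))
    (hJn : ¬ ((M ⊓ M.map (MulAut.conj g).toMonoidHom).subgroupOf M).Normal) :
    Nonempty (M ≃* Perm (Fin 3)) ∨ Nonempty (M ≃* DihedralGroup 6) ∨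
      Nonempty (M ≃* Perm (Fin 4)) ∨ Nonempty (M ≃* Perm (Fin 4) × Multiplicative (ZMod 2)) := by
  classical
  haveI : Fact (Nat.Prime 2) := ⟨Nat.prime_two⟩
  set M' := M.map (MulAut.conj g).toMonoidHom with hM'
  set J := M ⊓ M' with hJdef
  let e : M ≃* M' := M.equivMapOfInjective (MulAut.conj g).toMonoidHom (MulAut.conj g).injective
  have he : ∀ m : M, (e m : G) = g * m * g⁻¹ := fun m => rfl
  have hJmap : J.map (MulAut.conj g).toMonoidHom = J := by
    refine Subgroup.eq_of_le_of_card_ge ?_ (Subgroup.card_map_of_injective (MulAut.conj g).injective).ge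
    rintro _ ⟨x, hx, rfl⟩
    exact (Subgroup.mem_normalizer_iff.1 hg x).1 hx
  have heJ := map_subgroupOf_equiv e g he hJmap
  have hgM : g ∉ M := by
    intro hgM
    refine hne (Subgroup.eq_of_le_of_card_ge ?_ (Subgroup.card_map_of_injective (MulAut.conj g).injective).ge)
    rintro _ ⟨x, hx, rfl⟩
    exact mul_mem (mul_mem hgM hx) (inv_mem hgM)
  -- a subgroup normalised by `M` and by `g` is trivial
  have hkill : ∀ X : Subgroup G, X ≤ M → M ≤ Subgroup.normalizer (X : Set G) →
      g ∈ Subgroup.normalizer (X : Set G) → X = ⊥ := by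
    intro X hXM hn hgX
    by_contra hX
    exact hgM (normalizer_eq hmax hcore hX hXM hn ▸ hgX)
  have hsub : ∀ S : Subgroup G, J ≤ S → S ≤ M → S ≠ J → S = M := by
    intro S hJS hSM hS
    have h := Subgroup.relIndex_mul_relIndex _ _ _ hJS hSM
    rw [h3] at h
    rcases Nat.prime_three.eq_one_or_self_of_dvd _ (Dvd.intro _ h) with h1 | h1
    · exact absurd (le_antisymm (Subgroup.relIndex_eq_one.1 h1) hJS) hS
    · rw [h1] at h
      exact le_antisymm hSM (Subgroup.relIndex_eq_one.1 (by omega))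
  set Q := (J.subgroupOf M).normalCore with hQ
  have h3' : (J.subgroupOf M).index = 3 := h3
  have hQJ : Q.relIndex (J.subgroupOf M) = 2 := by
    have h2 := relIndex_normalCore_dvd_factorial (J.subgroupOf M)
    rw [h3'] at h2
    rcases (Nat.dvd_prime Nat.prime_two).1 h2 with h | h
    · exfalso
      refine hJn ?_
      rw [← le_antisymm (Subgroup.normalCore_le _) (Subgroup.relIndex_eq_one.1 h)]
      infer_instance
    · exact h
  have hQidx : Q.index = 6 := by
    rw [← Subgroup.relIndex_mul_index (Subgroup.normalCore_le (J.subgroupOf M)), hQJ, h3']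
  obtain ⟨θ, o, hθ, -⟩ := exists_coset_rep (J.subgroupOf M) 3 h3
  have hθr : θ.range = ⊤ := Subgroup.eq_top_of_card_eq _ (by
    rw [← Subgroup.index_ker, hθ, hQidx, Nat.card_perm, Nat.card_fin]; rfl)
  by_cases hQ1 : Q = ⊥
  · left
    exact ⟨((MonoidHom.ofInjective (f := θ) ((MonoidHom.ker_eq_bot_iff θ).1 (hθ.trans hQ1))).trans
      (MulEquiv.subgroupCongr hθr)).trans Subgroup.topEquiv⟩
  right
  by_cases hchar : Subgroup.centralizer (Q : Set M) ≤ Q
  · right
    -- both subgroups satisfy the hypotheses of the amalgam theorem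
    obtain ⟨a1, a2, a3⟩ := cubic_facts inf_le_left hJ h3 hJn hchar
    have h3m : J.relIndex M' = 3 := by
      show (J.subgroupOf M').index = 3
      rw [← heJ]
      exact (Subgroup.index_map_equiv (J.subgroupOf M) e).trans h3'
    obtain ⟨b1, b2, b3⟩ := cubic_facts (inf_le_right : J ≤ M') hJ h3m (fun hn => hJn (by
      rw [← heJ] at hn
      have hn' := hn.comap e.toMonoidHom
      rwa [Subgroup.comap_map_eq_self_of_injective e.injective] at hn'))
      (by
        rw [← heJ, ← map_normalCore_equiv]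
        intro y hy
        refine ⟨e.symm y, hchar (Subgroup.mem_centralizer_iff.2 fun x hx => e.injective ?_),
          e.apply_symm_apply y⟩
        rw [map_mul, map_mul, e.apply_symm_apply]
        exact Subgroup.mem_centralizer_iff.1 hy _ ⟨x, hx, rfl⟩)
    have hgen : M ⊔ M' = ⊤ :=
      hmax.2 _ (lt_of_le_of_ne le_sup_left fun h => hne
        (Subgroup.eq_of_le_of_card_ge (h.symm ▸ le_sup_right)
          (Subgroup.card_map_of_injective (MulAut.conj g).injective).ge))
    set Z := omegaOne 2 (J ⊓ Subgroup.centralizer (J : Set G))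
    have hgZ : g ∈ Subgroup.normalizer (Z : Set G) :=
      CfsgLib.ZJ.normalizer_le_normalizer_omegaOne 2 _
        (le_normalizer_inf (J := Subgroup.normalizer (J : Set G)) le_rfl
          (le_normalizer_centralizer le_rfl) hg)
    have hJne : J ≠ ⊥ := fun h => hQ1 (by
      rw [← le_bot_iff, ← Subgroup.bot_subgroupOf M, ← h]
      exact Subgroup.normalCore_le _)
    have hZM : ¬ M ≤ Subgroup.centralizer (Z : Set G) := by
      intro hc
      have hZ : Z = ⊥ := hkill Z ((CfsgLib.ZJ.omegaOne_le _ _).trans (inf_le_left.trans inf_le_left))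
        (hc.trans (Subgroup.centralizer_le_normalizer _)) hgZ
      haveI : Nontrivial J := (Subgroup.nontrivial_iff_ne_bot J).2 hJne
      haveI := hJ.center_nontrivial
      obtain ⟨z, hz⟩ : ∃ z : Subgroup.center J, orderOf z = 2 := by
        obtain ⟨k, hk⟩ := IsPGroup.iff_card.1 (hJ.to_subgroup (Subgroup.center J))
        refine exists_prime_orderOf_dvd_card' 2 ?_
        rw [hk]
        refine dvd_pow_self 2 fun hk0 => ?_
        rw [hk0, pow_zero] at hk
        exact (Finite.one_lt_card_iff_nontrivial.2 inferInstance).ne' hk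
      have hzZ : ((z : J) : G) ∈ Z := Subgroup.subset_closure
        ⟨⟨(z : J).2, Subgroup.mem_centralizer_iff.2 fun y hy =>
          congrArg Subtype.val (Subgroup.mem_center_iff.1 z.2 ⟨y, hy⟩)⟩, by
          rw [← Subgroup.coe_pow, ← Subgroup.coe_pow, ← hz, pow_orderOf_eq_one]; rfl⟩
      rw [hZ, Subgroup.mem_bot] at hzZ
      rw [show z = 1 from Subtype.ext (Subtype.ext hzZ), orderOf_one] at hz
      omega
    have hZM' : ¬ M' ≤ Subgroup.centralizer (Z : Set G) := by
      intro hc
      refine hZM fun m hm => Subgroup.mem_centralizer_iff.2 fun z hz => ?_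
      have hgz : g * z * g⁻¹ ∈ Z := (Subgroup.mem_normalizer_iff.1 hgZ z).1 hz
      have h1 := Subgroup.mem_centralizer_iff.1 (hc ⟨m, hm, rfl⟩) _ hgz
      have h2 : g * z * g⁻¹ * (g * m * g⁻¹) = g * m * g⁻¹ * (g * z * g⁻¹) := h1
      calc z * m = g⁻¹ * (g * z * g⁻¹ * (g * m * g⁻¹)) * g := by group
        _ = g⁻¹ * (g * m * g⁻¹ * (g * z * g⁻¹)) * g := by rw [h2]
        _ = m * z := by group
    rcases Cfsg.Agent.S2858.result M M' hgen J rfl
      (by rintro P (rfl | rfl) <;> assumption) (by rintro P (rfl | rfl) <;> assumption)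
      (fun N hN hNJ => by
        haveI := hN
        exact le_bot_iff.1 (hcore ▸ Subgroup.normal_le_normalCore.2 (hNJ.trans inf_le_left)))
      (by rintro P (rfl | rfl) <;> assumption) (by rintro P (rfl | rfl) <;> assumption) with
      ⟨⟨f⟩, -⟩ | ⟨⟨f⟩, -⟩
    · exact Or.inl ⟨f⟩
    · exact Or.inr ⟨f.trans MulEquiv.prodComm⟩
  left
  -- `O²(M)` centralises the kernel
  have hQM : Q.map M.subtype ≤ J :=
    (Subgroup.map_mono (Subgroup.normalCore_le _)).trans (Subgroup.map_subgroupOf_eq_of_le inf_le_left).le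
  have hQ2 : IsPGroup 2 Q :=
    (hJ.of_equiv (Subgroup.subgroupOfEquivOfLe (inf_le_left : J ≤ M)).symm).to_le
      (Subgroup.normalCore_le _)
  have hpc : pCore 2 M ≤ Q := pCore_le_of_index inf_le_left hJ h3
  obtain ⟨t, ht⟩ : ∃ t : Subgroup.centralizer (Q : Set M), orderOf t = 3 := by
    refine exists_prime_orderOf_dvd_card' 3 ?_
    by_contra h3c
    refine hchar (le_trans ?_ hpc)
    refine CfsgLib.Fitting.le_pCore inferInstance (IsPGroup.iff_card.2 ?_)
    refine ⟨_, Nat.eq_prime_pow_of_unique_prime_dvd Nat.card_pos.ne' fun {r} hr hrd => ?_⟩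
    by_contra hr2
    have hrM : r ∣ Nat.card M := hrd.trans (Subgroup.card_subgroup_dvd_card _)
    rw [← Subgroup.card_mul_index Q, hQidx] at hrM
    obtain ⟨k, hk⟩ := IsPGroup.iff_card.1 hQ2
    rw [hk] at hrM
    rcases hr.dvd_mul.1 hrM with h | h
    · exact hr2 ((Nat.prime_dvd_prime_iff_eq hr Nat.prime_two).1 (hr.dvd_of_dvd_pow h))
    · rcases hr.dvd_mul.1 (show r ∣ 2 * 3 from h) with h | h
      · exact hr2 ((Nat.prime_dvd_prime_iff_eq hr Nat.prime_two).1 h)
      · exact h3c ((Nat.prime_dvd_prime_iff_eq hr Nat.prime_three).1 h ▸ hrd)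
  have htJ : ((t : M) : G) ∉ J := by
    intro htJ
    obtain ⟨k, hk⟩ := hJ ⟨_, htJ⟩
    have h1 : orderOf (⟨_, htJ⟩ : J) ∣ 2 ^ k := orderOf_dvd_of_pow_eq_one hk
    rw [Subgroup.orderOf_mk, Subgroup.orderOf_coe, Subgroup.orderOf_coe, ht] at h1
    exact absurd (Nat.prime_three.dvd_of_dvd_pow h1) (by decide)
  -- the two kernels meet trivially
  set A := Q.map M.subtype with hA
  set A' := A.map (MulAut.conj g).toMonoidHom with hA'
  have hA'J : A' ≤ J := (Subgroup.map_mono hQM).trans hJmap.le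
  have hAn : M ≤ Subgroup.normalizer (A : Set G) := le_normalizer_map Q
  have hA'n : M' ≤ Subgroup.normalizer (A' : Set G) :=
    (Subgroup.map_mono hAn).trans (Subgroup.le_normalizer_map _)
  have hcent : ((t : M) : G) ∈ Subgroup.centralizer (A : Set G) := by
    rw [Subgroup.mem_centralizer_iff]
    rintro _ ⟨a, ha, rfl⟩
    exact congrArg Subtype.val (Subgroup.mem_centralizer_iff.1 t.2 a ha)
  have hI : A ⊓ A' = ⊥ := by
    by_contra hI
    have hJI : J ≤ Subgroup.normalizer ((A ⊓ A' : Subgroup G) : Set G) :=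
      le_normalizer_inf (inf_le_left.trans hAn) (inf_le_right.trans hA'n)
    have key : ∀ (N B : Subgroup G) (s : G), J ≤ N → s ∈ N → s ∉ J →
        s ∈ Subgroup.centralizer (B : Set G) → A ⊓ A' ≤ B →
        (∀ S : Subgroup G, J ≤ S → S ≤ N → S ≠ J → S = N) →
        N ≤ Subgroup.normalizer ((A ⊓ A' : Subgroup G) : Set G) := by
      intro N B s hJN hsN hsJ hsB hle hsubN
      have := hsubN (Subgroup.normalizer ((A ⊓ A' : Subgroup G) : Set G) ⊓ N) (le_inf hJI hJN)
        inf_le_right fun h => hsJ (h ▸ ⟨Subgroup.centralizer_le_normalizer _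
          (Subgroup.centralizer_le hle hsB), hsN⟩)
      rw [← this]
      exact inf_le_left
    have hMI := key M A (t : M) inf_le_left (t : M).2 htJ hcent inf_le_left hsub
    have hM'I := key M' A' (g * ((t : M) : G) * g⁻¹) inf_le_right ⟨_, (t : M).2, rfl⟩ (fun h => by
      rw [← hJmap] at h
      obtain ⟨z, hz, hze⟩ := h
      exact htJ ((MulAut.conj g).injective hze ▸ hz)) (by
      rw [Subgroup.mem_centralizer_iff]
      rintro _ ⟨a, ha, rfl⟩
      show g * a * g⁻¹ * (g * ((t : M) : G) * g⁻¹) = g * ((t : M) : G) * g⁻¹ * (g * a * g⁻¹)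
      calc g * a * g⁻¹ * (g * ((t : M) : G) * g⁻¹) = g * (a * ((t : M) : G)) * g⁻¹ := by group
        _ = g * (((t : M) : G) * a) * g⁻¹ := by rw [Subgroup.mem_centralizer_iff.1 hcent a ha]
        _ = _ := by group) inf_le_right (by
      intro S hJS hSM hS
      have h := Subgroup.relIndex_mul_relIndex _ _ _ hJS hSM
      have h3m : J.relIndex M' = 3 := by
        show (J.subgroupOf M').index = 3
        rw [← heJ]
        exact (Subgroup.index_map_equiv (J.subgroupOf M) e).trans h3'
      rw [h3m] at h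
      rcases Nat.prime_three.eq_one_or_self_of_dvd _ (Dvd.intro _ h) with h1 | h1
      · exact absurd (le_antisymm (Subgroup.relIndex_eq_one.1 h1) hJS) hS
      · rw [h1] at h
        exact le_antisymm hSM (Subgroup.relIndex_eq_one.1 (by omega)))
    have hN := normalizer_eq hmax hcore hI ((inf_le_left.trans hQM).trans inf_le_left) hMI
    refine hne (Subgroup.eq_of_le_of_card_ge ?_ (Subgroup.card_map_of_injective (MulAut.conj g).injective).ge)
    exact hM'I.trans hN.le
  -- orders
  have hAidx : A.relIndex J = 2 := by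
    have h := Subgroup.relIndex_map_map_of_injective Q (J.subgroupOf M) M.subtype_injective
    rw [Subgroup.map_subgroupOf_eq_of_le inf_le_left, hQJ] at h
    exact h
  have hA'idx : A'.relIndex J = 2 := by
    rw [hA', ← hJmap, Subgroup.relIndex_map_map_of_injective _ _ (MulAut.conj g).injective]
    exact hAidx
  have hAcard : Nat.card A = 2 := by
    have h1 : (A' ⊓ A).relIndex A ∣ 2 := by
      rw [Subgroup.inf_relIndex_right, ← hA'idx]
      haveI : (A'.subgroupOf J).Normal :=
        (Subgroup.normal_subgroupOf_iff_le_normalizer hA'J).2 (inf_le_right.trans hA'n)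
      have h := Subgroup.relIndex_dvd_index_of_normal (A'.subgroupOf J) (A.subgroupOf J)
      rw [Subgroup.subgroupOf, Subgroup.relIndex_comap, Subgroup.map_subgroupOf_eq_of_le hQM] at h
      exact h
    rw [inf_comm, hI, Subgroup.relIndex_bot_left] at h1
    rcases (Nat.dvd_prime Nat.prime_two).1 h1 with h | h
    · exfalso
      refine hQ1 ?_
      rw [← Subgroup.map_eq_bot_iff_of_injective _ M.subtype_injective, ← Subgroup.card_eq_one]
      exact h
    · exact h
  have hQcard : Nat.card Q = 2 := by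
    rwa [hA, Subgroup.card_map_of_injective M.subtype_injective] at hAcard
  have hA'card : Nat.card A' = 2 := by
    rw [hA', Subgroup.card_map_of_injective (MulAut.conj g).injective, hAcard]
  have hMcard : Nat.card M = 2 * 6 := by rw [← Subgroup.card_mul_index Q, hQcard, hQidx]
  obtain ⟨w, hw⟩ := exists_prime_orderOf_dvd_card' (G := Q) 2 (hQcard ▸ dvd_rfl)
  obtain ⟨x', hx'⟩ := exists_prime_orderOf_dvd_card' (G := A') 2 (hA'card ▸ dvd_rfl)
  set x : M := ⟨x', (hA'J x'.2).1⟩ with hx
  have hxQ : x ∉ Q := by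
    intro h
    have h1 : (x' : G) ∈ A ⊓ A' := ⟨⟨x, h, rfl⟩, x'.2⟩
    rw [hI, Subgroup.mem_bot] at h1
    rw [show x' = 1 from Subtype.ext h1, orderOf_one] at hx'
    omega
  have hxx : x * x = 1 := by
    have := pow_orderOf_eq_one x'
    rw [hx', pow_two] at this
    exact Subtype.ext (congrArg (fun y : A' => (y : G)) this)
  have hwM : ∀ m : M, m * (w : M) = (w : M) * m := by
    intro m
    have h1 : m * (w : M) * m⁻¹ ∈ Q := (inferInstance : Q.Normal).conj_mem _ w.2 m
    have h2 : ∀ q : Q, q = 1 ∨ q = w := by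
      intro q
      by_contra hq
      push Not at hq
      have hw1 : w ≠ 1 := fun h => by rw [h, orderOf_one] at hw; omega
      haveI := Fintype.ofFinite Q
      have : ({1, w, q} : Finset Q).card ≤ 2 := by
        rw [← hQcard, Nat.card_eq_fintype_card]
        exact Finset.card_le_univ _
      rw [Finset.card_insert_of_notMem (by simp [hw1.symm, hq.1.symm]),
        Finset.card_pair (fun h => hq.2 h.symm)] at this
      omega
    rcases h2 ⟨_, h1⟩ with h | h
    · exfalso
      have h' : m * (w : M) * m⁻¹ = 1 := congrArg Subtype.val h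
      rw [conj_eq_one_iff] at h'
      rw [show w = 1 from Subtype.ext h', orderOf_one] at hw
      omega
    · exact mul_inv_eq_iff_eq_mul.1 (congrArg Subtype.val h)
  have htM : orderOf (t : M) = 3 := by rw [Subgroup.orderOf_coe, ht]
  have hwM2 : orderOf (w : M) = 2 := by rw [Subgroup.orderOf_coe, hw]
  -- `x` inverts `t`
  have hxt : x * (t : M) * x⁻¹ = (t : M)⁻¹ := by
    have key6 : ∀ a b : Perm (Fin 3), a ≠ 1 → a * a * a = 1 → b ≠ 1 → b ≠ a → b ≠ a * a →
        b * a * b⁻¹ = a⁻¹ := by decide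
    have h6 : ∀ a b : Perm (Fin 3), orderOf a = 3 → b ∉ Subgroup.zpowers a → b * a * b⁻¹ = a⁻¹ := by
      intro a b ha hb
      have hb' : b ≠ 1 ∧ b ≠ a ∧ b ≠ a * a := by
        refine ⟨fun h => hb (h ▸ one_mem _), fun h => hb (h ▸ Subgroup.mem_zpowers a), fun h => ?_⟩
        exact hb (h ▸ mul_mem (Subgroup.mem_zpowers a) (Subgroup.mem_zpowers a))
      have ha' : a ≠ 1 ∧ a * a * a = 1 := by
        refine ⟨fun h => by rw [h, orderOf_one] at ha; omega, ?_⟩
        have := pow_orderOf_eq_one a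
        rw [ha] at this
        simpa [pow_succ] using this
      exact key6 a b ha'.1 ha'.2 hb'.1 hb'.2.1 hb'.2.2
    have hθt : orderOf (θ t) = 3 := by
      have h1 := orderOf_map_dvd θ (t : M)
      rw [htM] at h1
      rcases Nat.prime_three.eq_one_or_self_of_dvd _ h1 with h | h
      · exfalso
        rw [orderOf_eq_one_iff, ← MonoidHom.mem_ker, hθ] at h
        have h2 := orderOf_dvd_natCard (⟨_, h⟩ : Q)
        rw [Subgroup.orderOf_mk, htM, hQcard] at h2
        omega
      · exact h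
    have hθx : θ x ∉ Subgroup.zpowers (θ t) := by
      intro h
      have h1 : orderOf (θ x) ∣ 2 := orderOf_dvd_of_pow_eq_one (by rw [← map_pow, pow_two, hxx, map_one])
      have h2 : orderOf (θ x) ∣ 3 := by
        have := orderOf_dvd_natCard (⟨_, h⟩ : Subgroup.zpowers (θ t))
        rwa [Subgroup.orderOf_mk, Nat.card_zpowers, hθt] at this
      have h3o : orderOf (θ x) = 1 := Nat.eq_one_of_dvd_coprimes (by norm_num) h1 h2
      rw [orderOf_eq_one_iff, ← MonoidHom.mem_ker, hθ] at h3o
      exact hxQ h3o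
    have h1 : x * (t : M) * x⁻¹ * (t : M) ∈ Q := by
      have hθQ : θ.ker = Q := hθ
      refine hθQ.le (MonoidHom.mem_ker.2 ?_)
      rw [map_mul, map_mul, map_mul, map_inv, h6 _ _ hθt hθx, inv_mul_cancel]
    have h2 : (x * (t : M) * x⁻¹) ^ 3 = 1 := by
      rw [conj_pow, show (t : M) ^ 3 = 1 from htM ▸ pow_orderOf_eq_one _, mul_one, mul_inv_cancel]
    set q := x * (t : M) * x⁻¹ * (t : M) with hq
    have hc : q * (t : M)⁻¹ = (t : M)⁻¹ * q :=
      (Commute.inv_right (Subgroup.mem_centralizer_iff.1 t.2 q h1 : Commute q (t : M))).eq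
    have h4 : x * (t : M) * x⁻¹ = q * (t : M)⁻¹ := by rw [hq, mul_inv_cancel_right]
    rw [h4, (show Commute q (t : M)⁻¹ from hc).mul_pow, inv_pow,
      show (t : M) ^ 3 = 1 from htM ▸ pow_orderOf_eq_one _, inv_one, mul_one] at h2
    have h5 : orderOf (⟨q, h1⟩ : Q) ∣ 3 := orderOf_dvd_of_pow_eq_one (Subtype.ext h2)
    have h6' := orderOf_dvd_natCard (⟨q, h1⟩ : Q)
    rw [hQcard] at h6'
    have h7 : q = 1 := congrArg Subtype.val
      (orderOf_eq_one_iff.1 (Nat.eq_one_of_dvd_coprimes (by norm_num) h5 h6'))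
    rw [h4, h7, one_mul]
  have hcomm : Commute (t : M) (w : M) := hwM t
  refine equiv_dihedralGroup (s := (t : M) * w) (x := x) hMcard ?_ hxx ?_ ?_
  · rw [hcomm.orderOf_mul_eq_mul_orderOf_of_coprime (by rw [htM, hwM2]; norm_num), htM, hwM2]
  · intro h
    have hle : Subgroup.zpowers ((t : M) * w) ≤ Subgroup.centralizer (Q : Set M) := by
      rw [Subgroup.zpowers_le]
      refine mul_mem t.2 ?_
      exact Subgroup.mem_centralizer_iff.2 fun y _ => hwM y
    obtain ⟨k, hk⟩ := h
    have hcx : Commute x (t : M) := by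
      rw [← show ((t : M) * w) ^ k = x from hk]
      exact ((Commute.refl (t : M)).mul_left hcomm.symm).zpow_left k
    rw [hcx.eq, mul_inv_cancel_right] at hxt
    have h2 : (t : M) ^ 2 = 1 := by rw [pow_two]; nth_rw 1 [hxt]; rw [inv_mul_cancel]
    have := orderOf_dvd_of_pow_eq_one h2
    rw [htM] at this
    omega
  · rw [show x * ((t : M) * w) * x⁻¹ = (x * (t : M) * x⁻¹) * (x * (w : M) * x⁻¹) by group, hxt,
      hwM x, mul_inv_cancel_right, mul_inv_rev,
      show ((w : M))⁻¹ = (w : M) from inv_eq_of_mul_eq_one_right (by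
        have := pow_orderOf_eq_one (w : M); rw [hwM2, pow_two] at this; exact this)]
    exact (hwM _)

end CfsgLib.ThompsonWielandt
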