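import Cfsg.Agent.Lib.ThompsonWielandt.Counting

/-!
# The second cores are `p`-groups

If `O_p(M ⊓ M')` lies in one kernel then, the `p`-cores of `M` and `M'` having equal order,
the normalizer condition forces `M = M'`.  A non-trivial subgroup generated by the `p'`-elements of
a second core is normalised by `O_p(M ⊓ M')` together with all its conjugates, which puts
`O_p(M ⊓ M')` into a kernel.
-/

set_option autoImplicit false
set_option linter.unusedSectionVars false

namespace CfsgLib.ThompsonWielandt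

open Cfsg

open scoped Pointwise

variable {G : Type*} [Group G] [Finite G]

theorem mem_of_subnormal_of_coprime {H : Type*} [Group H] {S : Subgroup H} (hS : S.IsSubnormal)
    {x : H} (hx : Nat.Coprime (orderOf x) S.index) : x ∈ S := by
  induction hS with
  | top => exact Subgroup.mem_top x
  | step S K hle hK hn ih =>
    have hmul := Subgroup.relIndex_mul_index hle
    rw [← hmul] at hx
    have hxK : x ∈ K := ih (Nat.Coprime.coprime_mul_left_right hx)
    haveI := hn
    have hc : Nat.Coprime (orderOf x) (S.subgroupOf K).index :=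
      Nat.Coprime.coprime_mul_right_right hx
    have h1 : orderOf (QuotientGroup.mk (⟨x, hxK⟩ : K) : K ⧸ S.subgroupOf K) = 1 := by
      have ha := orderOf_map_dvd (QuotientGroup.mk' (S.subgroupOf K)) (⟨x, hxK⟩ : K)
      rw [Subgroup.orderOf_mk] at ha
      exact Nat.eq_one_of_dvd_coprimes hc ha (orderOf_dvd_natCard _)
    rw [orderOf_eq_one_iff, QuotientGroup.eq_one_iff] at h1
    exact h1

/-- A normal `p`-subgroup moves the `p'`-elements of a subnormal subgroup inside that subgroup. -/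
theorem conj_mem_of_subnormal {X : Type*} [Group X] [Finite X] {p : ℕ} [Fact p.Prime]
    {S P : Subgroup X} (hS : S.IsSubnormal) [P.Normal] (hP : IsPGroup p P) {s y : X} (hs : s ∈ S)
    (hsp : Nat.Coprime (orderOf s) p) (hy : y ∈ P) : y * s * y⁻¹ ∈ S := by
  have hdvd : (S.subgroupOf (S ⊔ P)).index ∣ Nat.card P := by
    have h1 : Nat.card (P.subgroupOf (S ⊔ P)) * P.relIndex (S ⊔ P) = Nat.card (S ⊔ P : Subgroup X) :=
      Subgroup.card_mul_index _
    have h2 : Nat.card (P.subgroupOf S) * P.relIndex S = Nat.card S := Subgroup.card_mul_index _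
    have h3 : Nat.card (S.subgroupOf (S ⊔ P)) * (S.subgroupOf (S ⊔ P)).index =
        Nat.card (S ⊔ P : Subgroup X) := Subgroup.card_mul_index _
    rw [Nat.card_congr (Subgroup.subgroupOfEquivOfLe (le_sup_right : P ≤ S ⊔ P)).toEquiv,
      Subgroup.relIndex_sup_right] at h1
    rw [Nat.card_congr (Subgroup.subgroupOfEquivOfLe (le_sup_left : S ≤ S ⊔ P)).toEquiv, ← h2,
      ← h1] at h3
    have hpos : 0 < P.relIndex S := Nat.pos_of_ne_zero Subgroup.index_ne_zero_of_finite
    refine ⟨Nat.card (P.subgroupOf S), Nat.eq_of_mul_eq_mul_right hpos ?_⟩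
    rw [← h3]
    ring
  obtain ⟨k, hk⟩ := IsPGroup.iff_card.1 hP
  have hmem : y * s * y⁻¹ ∈ S ⊔ P :=
    mul_mem (mul_mem (Subgroup.mem_sup_right hy) (Subgroup.mem_sup_left hs))
      (inv_mem (Subgroup.mem_sup_right hy))
  have hord : orderOf (⟨_, hmem⟩ : (S ⊔ P : Subgroup X)) = orderOf s := by
    rw [Subgroup.orderOf_mk]
    exact (MulAut.conj y).orderOf_eq s
  exact mem_of_subnormal_of_coprime (hS.subgroupOf (K := S ⊔ P)) (x := ⟨_, hmem⟩)
    (hord.symm ▸ Nat.Coprime.coprime_dvd_right (hk ▸ hdvd) (hsp.pow_right k))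

/-- The subgroup generated by the `p'`-elements. -/
def pRes (p : ℕ) (S : Subgroup G) : Subgroup G :=
  Subgroup.closure {x | x ∈ S ∧ Nat.Coprime (orderOf x) p}

theorem pRes_le (p : ℕ) (S : Subgroup G) : pRes p S ≤ S :=
  (Subgroup.closure_le _).2 fun _ hx => hx.1

theorem mem_normalizer_pRes {p : ℕ} {S : Subgroup G} {g : G}
    (h : ∀ x ∈ S, Nat.Coprime (orderOf x) p → g * x * g⁻¹ ∈ S) :
    g ∈ Subgroup.normalizer (pRes p S : Set G) := by
  have hle : (pRes p S).map (MulAut.conj g).toMonoidHom ≤ pRes p S := by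
    rw [pRes, MonoidHom.map_closure, Subgroup.closure_le]
    rintro _ ⟨x, ⟨hx, hxp⟩, rfl⟩
    refine Subgroup.subset_closure ⟨h x hx hxp, ?_⟩
    rwa [show (MulAut.conj g).toMonoidHom x = MulAut.conj g x from rfl, (MulAut.conj g).orderOf_eq]
  have heq := Subgroup.eq_of_le_of_card_ge hle
    (Subgroup.card_map_of_injective (MulAut.conj g).injective).ge
  rw [Subgroup.mem_normalizer_iff]
  intro x
  constructor
  · intro hx
    exact hle ⟨x, hx, rfl⟩
  · intro hx
    replace hx : g * x * g⁻¹ ∈ pRes p S := hx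
    rw [← heq] at hx
    obtain ⟨y, hy, hyx⟩ := hx
    rwa [(MulAut.conj g).injective (show MulAut.conj g y = MulAut.conj g x from hyx)] at hy

theorem isPGroup_of_pRes_eq_bot {p : ℕ} [hp : Fact p.Prime] {S : Subgroup G} (h : pRes p S = ⊥) :
    IsPGroup p S := by
  rw [IsPGroup.iff_orderOf]
  intro x
  obtain ⟨k, m, hm, he⟩ :=
    Nat.exists_eq_pow_mul_and_not_dvd (orderOf_pos x).ne' p hp.out.ne_one
  refine ⟨k, ?_⟩
  have hord : orderOf ((x : G) ^ p ^ k) = m := by
    rw [orderOf_pow' _ (pow_ne_zero k hp.out.ne_zero), Subgroup.orderOf_coe, he,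
      Nat.gcd_mul_right_left, Nat.mul_div_cancel_left _ (pow_pos hp.out.pos k)]
  have hmem : (x : G) ^ p ^ k ∈ pRes p S :=
    Subgroup.subset_closure ⟨S.pow_mem x.2 _,
      hord.symm ▸ ((Nat.Prime.coprime_iff_not_dvd hp.out).2 hm).symm⟩
  rw [h, Subgroup.mem_bot] at hmem
  rw [hmem, orderOf_one] at hord
  rw [he, ← hord, mul_one]

variable {M M' : Subgroup G}

theorem mem_coreIn {M K : Subgroup G} {y : G} (hy : y ∈ M)
    (h : ∀ x ∈ M, x * y * x⁻¹ ∈ K) : y ∈ coreIn M K :=
  ⟨⟨y, hy⟩, fun b => Subgroup.mem_subgroupOf.2 (h b b.2), rfl⟩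

theorem card_coreP_le (p : ℕ) [Fact p.Prime] {A B : Type*} [Group A] [Group B] [Finite A]
    [Finite B] (e : A ≃* B) : Nat.card (pCore p A) ≤ Nat.card (pCore p B) := by
  rw [← Subgroup.card_map_of_injective (K := pCore p A) (f := e.toMonoidHom) e.injective]
  exact Nat.le_of_dvd Nat.card_pos (Subgroup.card_dvd_of_le (CfsgLib.Fitting.le_pCore
    ((CfsgLib.Fitting.pCore_normal p).map _ e.surjective)
    ((CfsgLib.Fitting.pCore_isPGroup p).map _)))

/-- If `O_p(M ⊓ M')` lies in the kernel `A₁` then it is trivial. -/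
theorem Pair.false_of_coreP_le (h : Pair M M') (e : M ≃* M') {p : ℕ} [Fact p.Prime]
    (hne : coreP p (M ⊓ M') ≠ ⊥) (hle : coreP p (M ⊓ M') ≤ A₁ M M') : False := by
  set P := coreP p (M ⊓ M') with hPdef
  set Q := coreP p M with hQdef
  set R := coreP p M' with hRdef
  have hPQ : P ≤ Q := by
    refine le_trans ?_ (le_coreP (isPGroup_coreP p (A₁ M M')) ((coreP_le _ _).trans (coreIn_le_left _ _))
      (le_normalizer_coreP _ (le_normalizer_coreIn _ _)))
    exact le_coreP (isPGroup_coreP _ _) hle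
      ((A₁_le_inf M M').trans (le_normalizer_coreP _ Subgroup.le_normalizer))
  have hPeq : P = coreP p (A₁ M M') :=
    le_antisymm (le_coreP (isPGroup_coreP _ _) hle
      ((A₁_le_inf M M').trans (le_normalizer_coreP _ Subgroup.le_normalizer)))
      (le_coreP (isPGroup_coreP _ _) ((coreP_le _ _).trans (A₁_le_inf M M'))
        (le_normalizer_coreP _ (inf_le_normalizer_A₁ M M')))
  have hNP : Subgroup.normalizer (P : Set G) = M := by
    rw [hPeq] at hne ⊢
    exact normalizer_eq h.maxM h.coreM hne ((coreP_le _ _).trans (coreIn_le_left _ _))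
      (le_normalizer_coreP _ (le_normalizer_coreIn _ _))
  have hPR : P ≤ Subgroup.normalizer (R : Set G) :=
    (coreP_le p (M ⊓ M')).trans (inf_le_right.trans (le_normalizer_coreP _ Subgroup.le_normalizer))
  set H := P ⊔ R with hHdef
  have hH : IsPGroup p H :=
    IsPGroup.to_sup_of_normal_right' (isPGroup_coreP _ _) (isPGroup_coreP _ _) hPR
  have hnorm : Subgroup.normalizer ((P.subgroupOf H : Subgroup H) : Set H) ≤ P.subgroupOf H := by
    intro x hx
    have hxM : (x : G) ∈ M := by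
      rw [← hNP, Subgroup.mem_normalizer_iff]
      intro y
      constructor
      · intro hy
        exact (Subgroup.mem_normalizer_iff.1 hx ⟨y, Subgroup.mem_sup_left hy⟩).1 hy
      · intro hy
        have hyH : y ∈ H := by
          have := mul_mem (mul_mem (inv_mem x.2) (Subgroup.mem_sup_left hy : _ ∈ H)) x.2
          rwa [show (x : G)⁻¹ * ((x : G) * y * (x : G)⁻¹) * x = y by group] at this
        exact (Subgroup.mem_normalizer_iff.1 hx ⟨y, hyH⟩).2 hy
    rw [Subgroup.mem_subgroupOf]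
    have hx' : (x : G) ∈ ((P : Set G) * (R : Set G)) := by
      rw [← Subgroup.coe_mul_of_left_le_normalizer_right _ _ hPR]
      exact x.2
    obtain ⟨π, hπ, r, hr, hπr⟩ := hx'
    have hπP : π ∈ P := hπ
    have hrM : r ∈ M := by
      have hr2 : r = π⁻¹ * (x : G) := by rw [← hπr]; group
      rw [hr2]
      exact mul_mem (inv_mem ((coreP_le p (M ⊓ M')).trans inf_le_left hπP)) hxM
    have hrP : r ∈ P := by
      have hle' : R ⊓ (M ⊓ M') ≤ P :=
        le_coreP ((isPGroup_coreP p M').to_le inf_le_left) inf_le_right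
          (le_normalizer_inf (inf_le_right.trans (le_normalizer_coreP _ Subgroup.le_normalizer))
            Subgroup.le_normalizer)
      exact hle' ⟨hr, hrM, coreP_le p M' hr⟩
    rw [← hπr]
    exact P.mul_mem hπP hrP
  haveI := hH.isNilpotent
  have htop : P.subgroupOf H = ⊤ := by
    by_contra hlt
    exact (Group.normalizerCondition_of_isNilpotent _ (lt_top_iff_ne_top.2 hlt)).not_ge hnorm
  have hRP : R ≤ P := (le_sup_right : R ≤ H).trans (Subgroup.subgroupOf_eq_top.1 htop)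
  have hcard : Nat.card Q = Nat.card R := by
    rw [hQdef, hRdef, coreP, coreP, Subgroup.card_map_of_injective M.subtype_injective,
      Subgroup.card_map_of_injective M'.subtype_injective]
    exact le_antisymm (card_coreP_le p e) (card_coreP_le p e.symm)
  have hRQ : R = Q := Subgroup.eq_of_le_of_card_ge (hRP.trans hPQ) hcard.le
  have hQne : Q ≠ ⊥ := fun he => hne (le_bot_iff.1 (hPQ.trans he.le))
  refine h.ne ?_
  rw [← normalizer_eq h.maxM h.coreM hQne (coreP_le _ _) (le_normalizer_coreP _ Subgroup.le_normalizer),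
    ← normalizer_eq h.maxM' h.coreM' (hRQ ▸ hQne : R ≠ ⊥) (coreP_le _ _)
      (le_normalizer_coreP _ Subgroup.le_normalizer), hRQ]

/-- If the second core of `M` is not a `p`-group then `O_p(M ⊓ M')` lies in the kernel of `M'`. -/
theorem Pair.coreP_le_A₁' (h : Pair M M') {p : ℕ} [Fact p.Prime]
    (hT : pRes p (A₂ M M') ≠ ⊥) : coreP p (M ⊓ M') ≤ A₁ M' M := by
  set S := A₂ M M' with hS
  have hNT : Subgroup.normalizer (pRes p S : Set G) = M := by
    refine normalizer_eq h.maxM h.coreM hT ((pRes_le _ _).trans (coreIn_le_left _ _)) fun m hm => ?_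
    exact mem_normalizer_pRes fun x hx _ =>
      (Subgroup.mem_normalizer_iff.1 (le_normalizer_coreIn _ _ hm) x).1 hx
  intro y hy
  refine mem_coreIn ((coreP_le p (M ⊓ M')).trans inf_le_right hy) fun z hz => ?_
  refine Subgroup.mem_inf.2 ⟨mul_mem (mul_mem hz ((coreP_le p (M ⊓ M')).trans inf_le_right hy))
    (inv_mem hz), ?_⟩
  rw [← hNT]
  refine mem_normalizer_pRes fun t ht htp => ?_
  -- the conjugate of the second core
  set Sx := S.map (MulAut.conj z⁻¹).toMonoidHom with hSx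
  have hSxB : Sx ≤ A₁ M' M := by
    rintro _ ⟨w, hw, rfl⟩
    exact (Subgroup.mem_normalizer_iff.1 (le_normalizer_coreIn _ _ (inv_mem hz)) w).1
      (A₂_le_A₁' M M' hw)
  have hBJ : A₁ M' M ≤ M ⊓ M' := (A₁_le_inf M' M).trans (inf_comm M' M).le
  have hSn : A₁ M' M ≤ Subgroup.normalizer (Sx : Set G) := by
    have key : ∀ b ∈ A₁ M' M, ∀ w ∈ Sx, b * w * b⁻¹ ∈ Sx := by
      rintro b hb _ ⟨w, hw, rfl⟩
      have hb' : z * b * z⁻¹ ∈ M :=
        (hBJ ((Subgroup.mem_normalizer_iff.1 (le_normalizer_coreIn _ _ hz) b).1 hb)).1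
      refine ⟨(z * b * z⁻¹) * w * (z * b * z⁻¹)⁻¹,
        (Subgroup.mem_normalizer_iff.1 (le_normalizer_coreIn _ _ hb') w).1 hw, ?_⟩
      show z⁻¹ * ((z * b * z⁻¹) * w * (z * b * z⁻¹)⁻¹) * z⁻¹⁻¹ = b * (z⁻¹ * w * z⁻¹⁻¹) * b⁻¹
      group
    intro b hb
    rw [Subgroup.mem_normalizer_iff]
    intro w
    refine ⟨key b hb w, fun hw => ?_⟩
    have := key b⁻¹ (inv_mem hb) _ hw
    rwa [inv_inv, show b⁻¹ * (b * w * b⁻¹) * b = w by group] at this
  haveI : (coreP p (M ⊓ M')).subgroupOf (M ⊓ M') |>.Normal :=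
    (Subgroup.normal_subgroupOf_iff_le_normalizer (coreP_le _ _)).2
      (le_normalizer_coreP _ Subgroup.le_normalizer)
  have hsub : (Sx.subgroupOf (M ⊓ M')).IsSubnormal := by
    haveI : ((A₁ M' M).subgroupOf (M ⊓ M')).Normal :=
      (Subgroup.normal_subgroupOf_iff_le_normalizer hBJ).2
        ((inf_comm M M').le.trans (inf_le_normalizer_A₁ M' M))
    refine Subgroup.IsSubnormal.step _ _ (Subgroup.comap_mono hSxB)
      (inferInstance : ((A₁ M' M).subgroupOf (M ⊓ M')).Normal).isSubnormal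
      ((Subgroup.normal_subgroupOf_iff_le_normalizer (Subgroup.comap_mono hSxB)).2 ?_)
    exact (Subgroup.comap_mono hSn).trans (Subgroup.le_normalizer_comap _)
  have hts : z⁻¹ * t * z⁻¹⁻¹ ∈ Sx := ⟨t, ht, rfl⟩
  have hyJ : y ∈ M ⊓ M' := coreP_le _ _ hy
  have hord : orderOf (⟨_, hBJ (hSxB hts)⟩ : (M ⊓ M' : Subgroup G)) = orderOf t := by
    rw [Subgroup.orderOf_mk]
    exact (MulAut.conj z⁻¹).orderOf_eq t
  have hres := conj_mem_of_subnormal hsub (p := p) (P := (coreP p (M ⊓ M')).subgroupOf (M ⊓ M'))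
    ((isPGroup_coreP p (M ⊓ M')).of_equiv (Subgroup.subgroupOfEquivOfLe (coreP_le _ _)).symm)
    (s := ⟨_, hBJ (hSxB hts)⟩) (y := ⟨y, hyJ⟩) hts (hord.symm ▸ htp) hy
  obtain ⟨w, hw, hwe⟩ := (Subgroup.mem_subgroupOf.1 hres : _ ∈ Sx)
  have hwe' : z⁻¹ * w * z⁻¹⁻¹ = y * (z⁻¹ * t * z⁻¹⁻¹) * y⁻¹ := hwe
  have : z * y * z⁻¹ * t * (z * y * z⁻¹)⁻¹ = w := by
    calc z * y * z⁻¹ * t * (z * y * z⁻¹)⁻¹ = z * (y * (z⁻¹ * t * z⁻¹⁻¹) * y⁻¹) * z⁻¹ := by group
      _ = z * (z⁻¹ * w * z⁻¹⁻¹) * z⁻¹ := by rw [hwe']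
      _ = w := by group
  rwa [this]

/-- **Thompson–Wielandt**: the second core is a `p`-group. -/
theorem Pair.isPGroup_A₂ (h : Pair M M') (e : M ≃* M') {p : ℕ} [Fact p.Prime]
    (hpA : coreP p (A₂ M M') ≠ ⊥) : IsPGroup p (A₂ M M') := by
  refine isPGroup_of_pRes_eq_bot ?_
  by_contra hT
  refine h.symm.false_of_coreP_le e.symm (p := p) (fun he => hpA ?_) ?_
  · rw [inf_comm] at he
    rw [← le_bot_iff, ← he]
    refine le_coreP (isPGroup_coreP _ _) ((coreP_le _ _).trans ((A₂_le_A₁ M M').trans (A₁_le_inf M M'))) ?_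
    exact inf_le_left.trans (le_normalizer_coreP _ (le_normalizer_coreIn _ _))
  · rw [inf_comm]
    exact h.coreP_le_A₁' hT

end CfsgLib.ThompsonWielandt
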