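import Cfsg.Agent.Lib.ThompsonWielandt.PSubgroup

/-!
# Homomorphisms onto groups containing the alternating group
-/

set_option autoImplicit false
set_option linter.unusedSectionVars false

namespace CfsgLib.ThompsonWielandt

open Cfsg Equiv

variable {α : Type*} [Fintype α] [DecidableEq α]

theorem two_mul_card_alt (h5 : 5 ≤ Nat.card α) :
    2 * Nat.card (alternatingGroup α) = Nat.factorial (Nat.card α) := by
  haveI : Nontrivial α := Finite.one_lt_card_iff_nontrivial.1 (by omega)
  rw [two_mul_nat_card_alternatingGroup, Nat.card_perm]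

theorem alt_not_abelian (h5 : 5 ≤ Nat.card α)
    (h : alternatingGroup α ≤ Subgroup.centralizer (alternatingGroup α : Set (Perm α))) : False := by
  have hc := alternatingGroup.center_eq_bot (α := α) (by omega)
  have htop : Subgroup.center (alternatingGroup α) = ⊤ := by
    rw [eq_top_iff]
    intro x _
    rw [Subgroup.mem_center_iff]
    intro y
    exact Subtype.ext (Subgroup.mem_centralizer_iff.1 (h x.2) _ y.2)
  haveI := alternatingGroup.isSimpleGroup h5
  exact bot_ne_top (hc.symm.trans htop)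

theorem centralizer_alt (h5 : 5 ≤ Nat.card α) :
    Subgroup.centralizer (alternatingGroup α : Set (Perm α)) = ⊥ := by
  rcases Subgroup.bot_or_nontrivial (Subgroup.centralizer (alternatingGroup α : Set (Perm α))) with
    h | h
  · exact h
  · exact absurd (Perm.alternatingGroup_le_of_normal h5 h) fun h' => alt_not_abelian h5 h'

theorem alt_le_commutator (h5 : 5 ≤ Nat.card α) :
    alternatingGroup α ≤ ⁅alternatingGroup α, alternatingGroup α⁆ := by
  rcases Subgroup.bot_or_nontrivial ⁅alternatingGroup α, alternatingGroup α⁆ with h | h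
  · exact absurd (Subgroup.commutator_eq_bot_iff_le_centralizer.1 h) fun h' => alt_not_abelian h5 h'
  · exact Perm.alternatingGroup_le_of_normal h5 h

theorem not_isPGroup_alt (h5 : 5 ≤ Nat.card α) (p : ℕ) [Fact p.Prime] :
    ¬ IsPGroup p (alternatingGroup α) := by
  intro h
  haveI := alternatingGroup.isSimpleGroup h5
  haveI := h.center_nontrivial
  exact (Subgroup.nontrivial_iff_ne_bot _).1 inferInstance
    (alternatingGroup.center_eq_bot (α := α) (by omega))

theorem alt_le_of_card (h5 : 5 ≤ Nat.card α) {S : Subgroup (Perm α)}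
    (h : Nat.factorial (Nat.card α) ≤ 2 * Nat.card S) : alternatingGroup α ≤ S := by
  refine Perm.alternatingGroup_le_of_index_le_two ?_
  have h1 := Subgroup.card_mul_index S
  rw [Nat.card_perm] at h1
  have h2 : 0 < Nat.card S := Nat.card_pos
  by_contra hlt
  have h3 : Nat.card S * 3 ≤ Nat.card S * S.index := Nat.mul_le_mul_left _ (by omega)
  omega

theorem exists_alt_smul (h5 : 5 ≤ Nat.card α) (a b : α) :
    ∃ g ∈ alternatingGroup α, g a = b := by
  by_cases hab : a = b
  · exact ⟨1, one_mem _, hab⟩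
  obtain ⟨c, hc⟩ : ∃ c, c ∉ ({a, b} : Finset α) := by
    by_contra h
    push Not at h
    have := Finset.card_le_card (fun x _ => h x : (Finset.univ : Finset α) ⊆ {a, b})
    rw [Finset.card_univ, ← Nat.card_eq_fintype_card] at this
    have h2 : ({a, b} : Finset α).card ≤ 2 := Finset.card_le_two
    omega
  simp only [Finset.mem_insert, Finset.mem_singleton, not_or] at hc
  refine ⟨swap c b * swap a c, ?_, ?_⟩
  · rw [Equiv.Perm.mem_alternatingGroup, map_mul, Perm.sign_swap hc.2, Perm.sign_swap (Ne.symm hc.1)]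
    decide
  · simp

/-- A subgroup normalised by a group containing `Alt` is trivial or contains `Alt`. -/
theorem eq_bot_or_alt_le (h5 : 5 ≤ Nat.card α) {S N : Subgroup (Perm α)}
    (hS : alternatingGroup α ≤ S) (hN : N ≤ S) (hn : S ≤ Subgroup.normalizer (N : Set (Perm α))) :
    N = ⊥ ∨ alternatingGroup α ≤ N := by
  haveI := alternatingGroup.isSimpleGroup h5
  haveI : (N.subgroupOf (alternatingGroup α)).Normal := by
    rw [← Subgroup.inf_subgroupOf_right]
    refine (Subgroup.normal_subgroupOf_iff_le_normalizer inf_le_right).2 ?_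
    exact le_normalizer_inf (hS.trans hn) Subgroup.le_normalizer
  rcases (inferInstance : (N.subgroupOf (alternatingGroup α)).Normal).eq_bot_or_eq_top with h | h
  · left
    have hd : N ⊓ alternatingGroup α = ⊥ := disjoint_iff.1 (Subgroup.subgroupOf_eq_bot.1 h)
    have hc := le_centralizer_of_disjoint
      (fun x _ => by
        haveI := alternatingGroup.normal (α := α)
        rw [Subgroup.normalizer_eq_top]; trivial)
      (hS.trans hn) hd
    rw [centralizer_alt h5] at hc
    exact le_bot_iff.1 hc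
  · right
    exact Subgroup.subgroupOf_eq_top.1 h

variable {X : Type*} [Group X] [Finite X]

theorem commutator_le_inf {Y N₁ N₂ : Subgroup X} (h₁ : N₁ ≤ Y) (h₂ : N₂ ≤ Y)
    (hn₁ : Y ≤ Subgroup.normalizer (N₁ : Set X)) (hn₂ : Y ≤ Subgroup.normalizer (N₂ : Set X)) :
    ⁅N₁, N₂⁆ ≤ N₁ ⊓ N₂ := by
  rw [Subgroup.commutator_le]
  intro a ha b hb
  rw [commutatorElement_def, Subgroup.mem_inf]
  constructor
  · rw [show a * b * a⁻¹ * b⁻¹ = a * (b * a⁻¹ * b⁻¹) by group]
    exact mul_mem ha ((Subgroup.mem_normalizer_iff.1 (hn₁ (h₂ hb)) _).1 (inv_mem ha))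
  · exact mul_mem ((Subgroup.mem_normalizer_iff.1 (hn₂ (h₁ ha)) b).1 hb) (inv_mem hb)

theorem alt_le_map_inf (h5 : 5 ≤ Nat.card α) (f : X →* Perm α) {Y N₁ N₂ : Subgroup X}
    (h₁ : N₁ ≤ Y) (h₂ : N₂ ≤ Y) (hn₁ : Y ≤ Subgroup.normalizer (N₁ : Set X))
    (hn₂ : Y ≤ Subgroup.normalizer (N₂ : Set X))
    (hA₁ : alternatingGroup α ≤ N₁.map f) (hA₂ : alternatingGroup α ≤ N₂.map f) :
    alternatingGroup α ≤ (N₁ ⊓ N₂).map f := by
  refine ((alt_le_commutator h5).trans (Subgroup.commutator_mono hA₁ hA₂)).trans ?_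
  rw [← Subgroup.map_commutator]
  exact Subgroup.map_mono (commutator_le_inf h₁ h₂ hn₁ hn₂)

/-- Finitely many normal subgroups with image containing `Alt` meet in such a subgroup. -/
theorem alt_le_map_finset_inf (h5 : 5 ≤ Nat.card α) (f : X →* Perm α) {Y : Subgroup X}
    (hY : alternatingGroup α ≤ Y.map f) {ι : Type*} (s : Finset ι) (N : ι → Subgroup X)
    (hle : ∀ i ∈ s, N i ≤ Y) (hn : ∀ i ∈ s, Y ≤ Subgroup.normalizer (N i : Set X))
    (hA : ∀ i ∈ s, alternatingGroup α ≤ (N i).map f) :
    ∃ Z : Subgroup X, Z ≤ Y ∧ Y ≤ Subgroup.normalizer (Z : Set X) ∧ (∀ i ∈ s, Z ≤ N i) ∧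
      alternatingGroup α ≤ Z.map f := by
  classical
  induction s using Finset.induction_on with
  | empty => exact ⟨Y, le_rfl, Subgroup.le_normalizer, by simp, hY⟩
  | @insert a s ha ih =>
    obtain ⟨Z, hZY, hZn, hZN, hZA⟩ := ih (fun i hi => hle i (Finset.mem_insert_of_mem hi))
      (fun i hi => hn i (Finset.mem_insert_of_mem hi)) (fun i hi => hA i (Finset.mem_insert_of_mem hi))
    have haY := hle a (Finset.mem_insert_self a s)
    have han := hn a (Finset.mem_insert_self a s)
    refine ⟨N a ⊓ Z, inf_le_right.trans hZY, le_normalizer_inf han hZn, fun i hi => ?_,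
      alt_le_map_inf h5 f haY hZY han hZn (hA a (Finset.mem_insert_self a s)) hZA⟩
    rcases Finset.mem_insert.1 hi with rfl | hi
    · exact inf_le_left
    · exact inf_le_right.trans (hZN i hi)

/-- A normal subgroup of small index still has image containing `Alt`. -/
theorem alt_le_map_of_relIndex (h5 : 5 ≤ Nat.card α) (f : X →* Perm α) {Y N : Subgroup X}
    (hY : alternatingGroup α ≤ Y.map f) (hN : N ≤ Y) (hn : Y ≤ Subgroup.normalizer (N : Set X))
    (hsmall : 2 * N.relIndex Y < Nat.factorial (Nat.card α)) :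
    alternatingGroup α ≤ N.map f := by
  rcases eq_bot_or_alt_le h5 hY (Subgroup.map_mono hN)
    ((Subgroup.map_mono hn).trans (Subgroup.le_normalizer_map f)) with h | h
  · exfalso
    have hker : N ≤ f.ker := (Subgroup.map_eq_bot_iff N).1 h
    have h1 := Subgroup.relIndex_dvd_of_le_left Y hker
    rw [Subgroup.relIndex_ker] at h1
    have h2 := (Subgroup.card_dvd_of_le hY).trans h1
    have h3 := Nat.le_of_dvd (Nat.pos_of_ne_zero Subgroup.index_ne_zero_of_finite) h2
    have h4 := two_mul_card_alt (α := α) h5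
    unfold Subgroup.relIndex at *
    omega
  · exact h

/-- A subgroup with image containing `Alt` has no family of normal subgroups of small index with
trivial meet. -/
theorem false_of_family (h5 : 5 ≤ Nat.card α) (f : X →* Perm α) {Y : Subgroup X}
    (hY : alternatingGroup α ≤ Y.map f) {ι : Type*} [Finite ι] (N : ι → Subgroup X)
    (hle : ∀ i, N i ≤ Y) (hn : ∀ i, Y ≤ Subgroup.normalizer (N i : Set X))
    (hsmall : ∀ i, 2 * (N i).relIndex Y < Nat.factorial (Nat.card α))
    (hbot : ∀ x, (∀ i, x ∈ N i) → x = 1) : False := by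
  classical
  haveI := Fintype.ofFinite ι
  obtain ⟨Z, -, -, hZN, hZA⟩ := alt_le_map_finset_inf h5 f hY Finset.univ N (fun i _ => hle i)
    (fun i _ => hn i) (fun i _ => alt_le_map_of_relIndex h5 f hY (hle i) (hn i) (hsmall i))
  have hZ : Z = ⊥ := (Subgroup.eq_bot_iff_forall Z).2 fun x hx =>
    hbot x fun i => hZN i (Finset.mem_univ i) hx
  rw [hZ, Subgroup.map_bot, le_bot_iff] at hZA
  exact alt_not_abelian h5 (by rw [hZA]; exact bot_le)

end CfsgLib.ThompsonWielandt
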