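import Cfsg.Agent.Lib.ThompsonWielandt.CosetRep

/-!
# Pairs whose kernel quotient is alternating or symmetric
-/

set_option autoImplicit false
set_option linter.unusedSectionVars false

namespace CfsgLib.ThompsonWielandt

open Cfsg Equiv

variable {G : Type*} [Group G] [Finite G]

theorem relIndex_subgroupOf' {K Y M : Subgroup G} (hY : Y ≤ M) :
    (K.subgroupOf M).relIndex (Y.subgroupOf M) = K.relIndex Y := by
  rw [Subgroup.subgroupOf, Subgroup.relIndex_comap, Subgroup.map_subgroupOf_eq_of_le hY]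

theorem le_normalizer_subgroupOf {K Y M : Subgroup G} (hn : Y ≤ Subgroup.normalizer (K : Set G)) :
    Y.subgroupOf M ≤ Subgroup.normalizer ((K.subgroupOf M : Subgroup M) : Set M) :=
  (Subgroup.comap_mono hn).trans (Subgroup.le_normalizer_comap _)

theorem le_normalizer_im {P : Type*} [Group P] {K Y M : Subgroup G} (f : M →* P)
    (hn : Y ≤ Subgroup.normalizer (K : Set G)) :
    (Y.subgroupOf M).map f ≤ Subgroup.normalizer (((K.subgroupOf M).map f : Subgroup P) : Set P) :=
  (Subgroup.map_mono (le_normalizer_subgroupOf hn)).trans (Subgroup.le_normalizer_map f)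

theorem inf_coreIn_eq {M K X : Subgroup G} {P : Type*} [Group P] (f : M →* P)
    (hf : f.ker = (coreIn M K).subgroupOf M) (hX : X ≤ M) (h : (X.subgroupOf M).map f = ⊥) :
    X ≤ coreIn M K := by
  intro x hx
  have h1 := (Subgroup.map_eq_bot_iff _).1 h (show (⟨x, hX hx⟩ : M) ∈ X.subgroupOf M from hx)
  rw [hf] at h1
  exact h1

/-- Two maximal subgroups with alternating or symmetric action of degree `d` on the cosets. -/
structure AltPair (M M' : Subgroup G) (d : ℕ) : Prop where
  pair : Pair M M'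
  six : 6 ≤ d
  rel : (M ⊓ M').relIndex M = d
  rel' : (M ⊓ M').relIndex M' = d
  big : Nat.factorial d ≤ 2 * (A₁ M M').relIndex M

variable {M M' : Subgroup G} {d : ℕ}

theorem A₁_relIndex_mul (hd : (M ⊓ M').relIndex M = d) :
    (A₁ M M').relIndex (M ⊓ M') * d = (A₁ M M').relIndex M := by
  rw [← hd]
  exact Subgroup.relIndex_mul_relIndex _ _ _ (A₁_le_inf M M') inf_le_left

theorem coset_rep_pair (hd : (M ⊓ M').relIndex M = d) :
    ∃ (φ : M →* Perm (Fin d)) (o : Fin d), φ.ker = (A₁ M M').subgroupOf M ∧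
      (∀ x : M, φ x o = o ↔ (x : G) ∈ M ⊓ M') := by
  obtain ⟨f, o, hker, ho⟩ := exists_coset_rep ((M ⊓ M').subgroupOf M) d hd
  refine ⟨f, o, ?_, fun x => ho x⟩
  rw [hker, A₁, coreIn]
  exact (Subgroup.comap_map_eq_self_of_injective M.subtype_injective _).symm

theorem point_rep_pair (hd : (M ⊓ M').relIndex M = d) (h1 : 1 ≤ d) :
    ∃ (ψ : (M ⊓ M' : Subgroup G) →* Perm (Fin (d - 1))) (pt : {x : M // (x : G) ∉ M ⊓ M'} → Fin (d - 1)),
      ψ.ker = (A₁ M M').subgroupOf (M ⊓ M') ∧
      ∀ (j : (M ⊓ M' : Subgroup G)) (a b : {x : M // (x : G) ∉ M ⊓ M'}),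
        ψ j (pt a) = pt b → ((b : M) : G)⁻¹ * ((j : G) * ((a : M) : G)) ∈ M ⊓ M' := by
  obtain ⟨g, pt, hker, -, hmov⟩ := exists_point_rep ((M ⊓ M').subgroupOf M) (d - 1)
    (by rw [← Subgroup.relIndex, hd]; omega)
  set e := Subgroup.subgroupOfEquivOfLe (inf_le_left : M ⊓ M' ≤ M)
  refine ⟨g.comp e.symm.toMonoidHom, pt, ?_, fun j a b h => hmov (e.symm j) a b h⟩
  rw [← MonoidHom.comap_ker, hker]
  ext j
  simp only [Subgroup.mem_comap, Subgroup.mem_subgroupOf]
  rw [A₁, coreIn]
  constructor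
  · intro h
    exact ⟨_, h, rfl⟩
  · rintro ⟨y, hy, hye⟩
    have : y = ⟨(j : G), j.2.1⟩ := Subtype.ext hye
    rw [this] at hy
    exact hy

theorem AltPair.alt_le_range (h : AltPair M M' d) {φ : M →* Perm (Fin d)}
    (hφ : φ.ker = (A₁ M M').subgroupOf M) : alternatingGroup (Fin d) ≤ φ.range := by
  refine alt_le_of_card (by rw [Nat.card_fin]; linarith [h.six]) ?_
  rw [← Subgroup.index_ker, hφ, Nat.card_fin]
  exact h.big

theorem AltPair.alt_le_point_range (h : AltPair M M' d)
    {ψ : (M ⊓ M' : Subgroup G) →* Perm (Fin (d - 1))}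
    (hψ : ψ.ker = (A₁ M M').subgroupOf (M ⊓ M')) : alternatingGroup (Fin (d - 1)) ≤ ψ.range := by
  have h6 := h.six
  refine alt_le_of_card (by rw [Nat.card_fin]; omega) ?_
  rw [← Subgroup.index_ker, hψ, Nat.card_fin]
  refine le_of_mul_le_mul_left (a := d) ?_ (show 0 < d by omega)
  rw [Nat.mul_factorial_pred (by omega), ← mul_assoc, mul_comm d 2, mul_assoc, mul_comm d]
  exact h.big.trans_eq (by rw [← A₁_relIndex_mul h.rel]; rfl)

theorem relIndex_point_le (hd : (M ⊓ M').relIndex M = d) :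
    (A₁ M M').relIndex (M ⊓ M') ∣ Nat.factorial (d - 1) := by
  have h := relIndex_normalCore_dvd_factorial ((M ⊓ M').subgroupOf M)
  rw [← Subgroup.relIndex_map_map_of_injective _ _ M.subtype_injective,
    Subgroup.map_subgroupOf_eq_of_le inf_le_left] at h
  rw [← hd]
  exact h

theorem D_relIndex_le (hd' : (M ⊓ M').relIndex M' = d) {K : Subgroup G} (hK : K = A₁ M M') :
    (D M M').relIndex K ≤ Nat.factorial (d - 1) := by
  subst hK
  refine le_trans ?_ (Nat.le_of_dvd (Nat.factorial_pos _)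
    (relIndex_point_le (M := M') (M' := M) (by rwa [inf_comm])))
  rw [D, inf_comm, Subgroup.inf_relIndex_right, inf_comm M' M]
  exact Nat.le_of_dvd (Nat.pos_of_ne_zero Subgroup.index_ne_zero_of_finite)
    (by
      haveI : ((A₁ M' M).subgroupOf (M ⊓ M')).Normal :=
        (Subgroup.normal_subgroupOf_iff_le_normalizer ((A₁_le_inf M' M).trans (inf_comm M' M).le)).2
          ((inf_comm M M').le.trans (inf_le_normalizer_A₁ M' M))
      have h := Subgroup.relIndex_dvd_index_of_normal ((A₁ M' M).subgroupOf (M ⊓ M'))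
        ((A₁ M M').subgroupOf (M ⊓ M'))
      rw [relIndex_subgroupOf' (A₁_le_inf M M')] at h
      exact h)

/-- The conjugates of `D` under `M`. -/
def conjD (M M' : Subgroup G) (m : M) : Subgroup G := (D M M').map (MulAut.conj (m : G)).toMonoidHom

theorem A₁_map_conj (m : M) :
    (A₁ M M').map (MulAut.conj (m : G)).toMonoidHom = A₁ M M' := by
  refine Subgroup.eq_of_le_of_card_ge ?_
    (Subgroup.card_map_of_injective (MulAut.conj (m : G)).injective).ge
  rintro _ ⟨a, ha, rfl⟩
  exact (Subgroup.mem_normalizer_iff.1 (le_normalizer_coreIn _ _ m.2) a).1 ha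

theorem conjD_le (m : M) : conjD M M' m ≤ A₁ M M' :=
  (Subgroup.map_mono inf_le_left).trans (A₁_map_conj m).le

theorem le_normalizer_conjD (m : M) : A₁ M M' ≤ Subgroup.normalizer (conjD M M' m : Set G) := by
  have h : A₁ M M' ≤ Subgroup.normalizer (D M M' : Set G) :=
    le_normalizer_inf Subgroup.le_normalizer
      ((A₁_le_inf M M').trans ((inf_comm M M').le.trans (inf_le_normalizer_A₁ M' M)))
  calc A₁ M M' = (A₁ M M').map (MulAut.conj (m : G)).toMonoidHom := (A₁_map_conj m).symm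
    _ ≤ _ := (Subgroup.map_mono h).trans (Subgroup.le_normalizer_map _)

theorem relIndex_conjD (m : M) :
    (conjD M M' m).relIndex (A₁ M M') = (D M M').relIndex (A₁ M M') := by
  conv_lhs => rw [← A₁_map_conj (M' := M') m, conjD]
  exact Subgroup.relIndex_map_map_of_injective _ _ (MulAut.conj (m : G)).injective

theorem eq_one_of_mem_conjD (hA : A₂ M M' = ⊥) {x : G} (h : ∀ m : M, x ∈ conjD M M' m) :
    x = 1 := by
  rw [← Subgroup.mem_bot, ← hA]
  refine mem_coreIn (coreIn_le_left _ _ (conjD_le 1 (h 1))) fun m hm => ?_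
  obtain ⟨a, ha, hax⟩ := h ⟨m⁻¹, inv_mem hm⟩
  have hax' : m⁻¹ * a * m⁻¹⁻¹ = x := hax
  rwa [← hax', show m * (m⁻¹ * a * m⁻¹⁻¹) * m⁻¹ = a by group]

/-- No subgroup with an `Alt` image embeds into the product of the quotients `A₁ / D ^ m`. -/
theorem not_alt_le_A₁ (h6 : 6 ≤ d) (hd' : (M ⊓ M').relIndex M' = d) (hA : A₂ M M' = ⊥)
    {N : Subgroup G} (hN : A₁ M M' ≤ N) (f : N →* Perm (Fin d))
    (hf : alternatingGroup (Fin d) ≤ ((A₁ M M').subgroupOf N).map f) : False := by
  refine false_of_family (by rw [Nat.card_fin]; omega) f hf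
    (fun m : M => (conjD M M' m).subgroupOf N) (fun m => Subgroup.comap_mono (conjD_le m))
    (fun m => le_normalizer_subgroupOf (le_normalizer_conjD m)) (fun m => ?_) ?_
  · rw [relIndex_subgroupOf' hN, relIndex_conjD, Nat.card_fin]
    have h1 := D_relIndex_le (M := M) hd' rfl
    have h2 : d * Nat.factorial (d - 1) = Nat.factorial d := Nat.mul_factorial_pred (by omega)
    have h3 := Nat.factorial_pos (d - 1)
    nlinarith
  · intro x hx
    exact Subtype.ext (eq_one_of_mem_conjD hA fun m => hx m)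

theorem AltPair.coreP_eq_bot (h : AltPair M M' d) (e : M ≃* M') (p : ℕ) [Fact p.Prime] :
    coreP p (M ⊓ M') = ⊥ := by
  by_contra hne
  refine h.pair.false_of_coreP_le e hne ?_
  obtain ⟨ψ, pt, hψ, -⟩ := point_rep_pair h.rel (by linarith [h.six])
  have h5 : 5 ≤ Nat.card (Fin (d - 1)) := by rw [Nat.card_fin]; have := h.six; omega
  haveI := CfsgLib.Fitting.pCore_normal (G := (M ⊓ M' : Subgroup G)) p
  have hn : ψ.range ≤ Subgroup.normalizer (((pCore p (M ⊓ M' : Subgroup G)).map ψ :
      Subgroup (Perm (Fin (d - 1)))) : Set (Perm (Fin (d - 1)))) := by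
    rw [MonoidHom.range_eq_map]
    refine (Subgroup.map_mono ?_).trans (Subgroup.le_normalizer_map ψ)
    exact Subgroup.normalizer_eq_top_iff.2 inferInstance |>.ge
  rcases eq_bot_or_alt_le h5 (h.alt_le_point_range hψ) (Subgroup.map_le_range ψ _) hn with hb | hb
  · have hle := (Subgroup.map_eq_bot_iff _).1 hb
    rw [hψ] at hle
    rintro _ ⟨x, hx, rfl⟩
    exact hle hx
  · exact absurd (((CfsgLib.Fitting.pCore_isPGroup p).map ψ).to_le hb) (not_isPGroup_alt h5 p)

/-- Abelian subgroups normalised by `M ⊓ M'` are trivial. -/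
theorem AltPair.abelian_eq_bot (h : AltPair M M' d) (e : M ≃* M') {Z : Subgroup G}
    (hZ : Z ≤ M ⊓ M') (hn : M ⊓ M' ≤ Subgroup.normalizer (Z : Set G))
    (hab : Z ≤ Subgroup.centralizer (Z : Set G)) : Z = ⊥ := by
  by_contra hne
  obtain ⟨p, hp, hpd⟩ := Nat.exists_prime_and_dvd
    (show Nat.card Z ≠ 1 from fun h' => hne (Subgroup.card_eq_one.1 h'))
  haveI := Fact.mk hp
  obtain ⟨g, hg⟩ := exists_prime_orderOf_dvd_card' (G := Z) p hpd
  let E : Subgroup G :=
    { carrier := {z | z ∈ Z ∧ z ^ p = 1}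
      one_mem' := ⟨one_mem _, one_pow _⟩
      mul_mem' := by
        rintro a b ⟨ha, ha'⟩ ⟨hb, hb'⟩
        refine ⟨mul_mem ha hb, ?_⟩
        have hc : Commute a b := Subgroup.mem_centralizer_iff.1 (hab hb) a ha
        rw [hc.mul_pow, ha', hb', one_mul]
      inv_mem' := by
        rintro a ⟨ha, ha'⟩
        exact ⟨inv_mem ha, by rw [inv_pow, ha', inv_one]⟩ }
  have hE : IsPGroup p E := fun z => ⟨1, Subtype.ext (by rw [pow_one, Subgroup.coe_pow]; exact z.2.2)⟩
  have hEn : M ⊓ M' ≤ Subgroup.normalizer (E : Set G) := by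
    have key : ∀ j ∈ M ⊓ M', ∀ z ∈ E, j * z * j⁻¹ ∈ E := fun j hj z hz =>
      ⟨(Subgroup.mem_normalizer_iff.1 (hn hj) z).1 hz.1, by rw [conj_pow, hz.2, mul_one, mul_inv_cancel]⟩
    intro j hj
    rw [Subgroup.mem_normalizer_iff]
    intro z
    refine ⟨key j hj z, fun hz => ?_⟩
    have := key j⁻¹ (inv_mem hj) _ hz
    rwa [inv_inv, show j⁻¹ * (j * z * j⁻¹) * j = z by group] at this
  have hle := le_coreP hE (fun z hz => hZ hz.1) hEn
  rw [h.coreP_eq_bot e p, le_bot_iff] at hle
  have hgE : (g : G) ∈ E := ⟨g.2, by rw [← Subgroup.coe_pow, ← hg, pow_orderOf_eq_one, Subgroup.coe_one]⟩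
  rw [hle, Subgroup.mem_bot] at hgE
  rw [show g = 1 from Subtype.ext hgE, orderOf_one] at hg
  exact hp.ne_one hg.symm

theorem AltPair.cases (h : AltPair M M' d) (e : M ≃* M') : A₂ M M' = ⊥ ∨ A₂ M' M = ⊥ := by
  by_contra hc
  push Not at hc
  obtain ⟨p, hp, hpA, -⟩ := h.pair.exists_prime hc.1 hc.2
  haveI := Fact.mk hp
  refine hpA ?_
  rw [← le_bot_iff, ← h.coreP_eq_bot e p]
  exact le_coreP (isPGroup_coreP _ _)
    ((coreP_le _ _).trans ((A₂_le_A₁ _ _).trans (A₁_le_inf _ _)))
    (inf_le_left.trans (le_normalizer_coreP _ (le_normalizer_coreIn _ _)))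

/-- The quotient of `M'` by its kernel is alternating or symmetric as well. -/
theorem AltPair.symm (h : AltPair M M' d) (e : M ≃* M') : AltPair M' M d := by
  refine ⟨h.pair.symm, h.six, by rw [inf_comm]; exact h.rel', by rw [inf_comm]; exact h.rel, ?_⟩
  obtain ⟨φ, o, hφ, -⟩ := coset_rep_pair h.rel
  have h6 := h.six
  have h5 : 5 ≤ Nat.card (Fin d) := by rw [Nat.card_fin]; omega
  set f := φ.comp e.symm.toMonoidHom with hf
  have hfr : f.range = φ.range := by
    rw [hf, MonoidHom.range_comp, MonoidHom.range_eq_top.2 e.symm.surjective, ← MonoidHom.range_eq_map]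
  have hfA : alternatingGroup (Fin d) ≤ f.range := hfr ▸ h.alt_le_range hφ
  have hBn : f.range ≤ Subgroup.normalizer ((((A₁ M' M).subgroupOf M').map f :
      Subgroup (Perm (Fin d))) : Set (Perm (Fin d))) := by
    rw [MonoidHom.range_eq_map, ← Subgroup.subgroupOf_self (H := M')]
    exact le_normalizer_im f (le_normalizer_coreIn _ _)
  rcases eq_bot_or_alt_le h5 hfA (Subgroup.map_le_range f _) hBn with hb | hb
  · -- `B₁` is in the kernel
    have hker := (Subgroup.map_eq_bot_iff _).1 hb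
    have h1 := Subgroup.index_dvd_of_le hker
    rw [Subgroup.index_ker, hfr, ← Subgroup.index_ker, hφ] at h1
    have h2 := Nat.le_of_dvd (Nat.pos_of_ne_zero Subgroup.index_ne_zero_of_finite) h1
    exact h.big.trans (Nat.mul_le_mul_left 2 h2)
  · exfalso
    rcases h.cases e with hA | hB
    · have hDA : alternatingGroup (Fin d) ≤ ((D M M').subgroupOf M').map f := by
        refine alt_le_map_of_relIndex h5 f hb (Subgroup.comap_mono inf_le_right) ?_ ?_
        · exact le_normalizer_subgroupOf (le_normalizer_inf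
            (((A₁_le_inf M' M).trans (inf_comm M' M).le).trans (inf_le_normalizer_A₁ M M'))
            Subgroup.le_normalizer)
        · rw [relIndex_subgroupOf' (coreIn_le_left _ _), D, inf_comm, Nat.card_fin]
          have h1 := D_relIndex_le (M := M') (M' := M) (d := d) (by rw [inf_comm]; exact h.rel) rfl
          have h2 : d * Nat.factorial (d - 1) = Nat.factorial d := Nat.mul_factorial_pred (by omega)
          have h3 := Nat.factorial_pos (d - 1)
          rw [D] at h1
          nlinarith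
      exact not_alt_le_A₁ h.six h.rel' hA ((A₁_le_inf M M').trans inf_le_right) f
        (hDA.trans (Subgroup.map_mono (Subgroup.comap_mono inf_le_left)))
    · exact not_alt_le_A₁ h.six (by rw [inf_comm]; exact h.rel) hB (coreIn_le_left _ _) f hb

end CfsgLib.ThompsonWielandt
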