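import Cfsg.Agent.Lib.ThompsonWielandt.AltPair

/-!
# The structure of a maximal subgroup with alternating or symmetric kernel quotient
-/

set_option autoImplicit false
set_option linter.unusedSectionVars false

namespace CfsgLib.ThompsonWielandt

open Cfsg Equiv

variable {G : Type*} [Group G] [Finite G] {M M' : Subgroup G} {d : ℕ}

theorem card_fin_five {n : ℕ} (h : 5 ≤ n) : 5 ≤ Nat.card (Fin n) := by rwa [Nat.card_fin]

theorem AltPair.alt_le_im_A₁' (h : AltPair M M' d) (e : M ≃* M') (hne : A₁ M M' ≠ ⊥)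
    {ψ : (M ⊓ M' : Subgroup G) →* Perm (Fin (d - 1))}
    (hψ : ψ.ker = (A₁ M M').subgroupOf (M ⊓ M')) :
    alternatingGroup (Fin (d - 1)) ≤ ((A₁ M' M).subgroupOf (M ⊓ M')).map ψ := by
  have h6 := h.six
  have h5 := card_fin_five (show 5 ≤ d - 1 by omega)
  have hBJ : A₁ M' M ≤ M ⊓ M' := (A₁_le_inf M' M).trans (inf_comm M' M).le
  have hn : ψ.range ≤ Subgroup.normalizer ((((A₁ M' M).subgroupOf (M ⊓ M')).map ψ :
      Subgroup (Perm (Fin (d - 1)))) : Set (Perm (Fin (d - 1)))) := by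
    rw [MonoidHom.range_eq_map, ← Subgroup.subgroupOf_self (H := M ⊓ M')]
    exact le_normalizer_im ψ ((inf_comm M M').le.trans (inf_le_normalizer_A₁ M' M))
  refine (eq_bot_or_alt_le h5 (h.alt_le_point_range hψ) (Subgroup.map_le_range ψ _) hn).resolve_left
    fun hb => ?_
  have hle : A₁ M' M ≤ A₁ M M' := by
    intro x hx
    have h1 := (Subgroup.map_eq_bot_iff _).1 hb (show (⟨x, hBJ hx⟩ : (M ⊓ M' : Subgroup G)) ∈
      (A₁ M' M).subgroupOf (M ⊓ M') from hx)
    rw [hψ] at h1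
    exact h1
  obtain ⟨χ, pt, hχ, -⟩ := point_rep_pair (h.symm e).rel (by omega)
  have hAJ : A₁ M M' ≤ M' ⊓ M := (A₁_le_inf M M').trans (inf_comm M M').le
  have hn' : χ.range ≤ Subgroup.normalizer ((((A₁ M M').subgroupOf (M' ⊓ M)).map χ :
      Subgroup (Perm (Fin (d - 1)))) : Set (Perm (Fin (d - 1)))) := by
    rw [MonoidHom.range_eq_map, ← Subgroup.subgroupOf_self (H := M' ⊓ M)]
    exact le_normalizer_im χ ((inf_comm M' M).le.trans (inf_le_normalizer_A₁ M M'))
  rcases eq_bot_or_alt_le h5 ((h.symm e).alt_le_point_range hχ) (Subgroup.map_le_range χ _) hn' with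
    hc | hc
  · have heq : A₁ M' M = A₁ M M' := by
      refine le_antisymm hle fun x hx => ?_
      have h1 := (Subgroup.map_eq_bot_iff _).1 hc (show (⟨x, hAJ hx⟩ : (M' ⊓ M : Subgroup G)) ∈
        (A₁ M M').subgroupOf (M' ⊓ M) from hx)
      rw [hχ] at h1
      exact h1
    exact h.pair.ne ((normalizer_eq h.pair.maxM h.pair.coreM hne (coreIn_le_left _ _)
      (le_normalizer_coreIn _ _)).symm.trans
      ((congrArg (fun K : Subgroup G => Subgroup.normalizer (K : Set G)) heq).symm.trans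
        (normalizer_eq h.pair.maxM' h.pair.coreM' (heq ▸ hne : A₁ M' M ≠ ⊥) (coreIn_le_left _ _)
          (le_normalizer_coreIn _ _))))
  · -- both quotients are large
    have h1 := Nat.le_of_dvd Nat.card_pos (Subgroup.card_dvd_of_le hc)
    have h2 : Nat.card (((A₁ M M').subgroupOf (M' ⊓ M)).map χ) =
        (A₁ M' M).relIndex (A₁ M M') := by
      rw [← Subgroup.relIndex_ker, hχ, relIndex_subgroupOf' hAJ]
    have h3 := Nat.le_of_dvd (Nat.factorial_pos _) (relIndex_point_le (M := M') (M' := M) (d := d)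
      (h.symm e).rel)
    rw [inf_comm M' M, ← Subgroup.relIndex_mul_relIndex _ _ _ hle (A₁_le_inf M M')] at h3
    have h4 : d * Nat.factorial (d - 1) = Nat.factorial d := Nat.mul_factorial_pred (by omega)
    have h5' := two_mul_card_alt h5
    rw [Nat.card_fin] at h5'
    have h6' := h.big
    rw [← A₁_relIndex_mul h.rel] at h6'
    have h7 : 120 ≤ Nat.factorial (d - 1) :=
      le_trans (by decide) (Nat.factorial_le (show 5 ≤ d - 1 by omega))
    have h8 : Nat.factorial (d - 1) ≤ 2 * (A₁ M M').relIndex (M ⊓ M') := by nlinarith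
    rw [h2] at h1
    have h9 := Nat.mul_le_mul (show Nat.factorial (d - 1) ≤ 2 * (A₁ M' M).relIndex (A₁ M M') by omega) h8
    nlinarith

theorem AltPair.maximal (h : AltPair M M' d) {S : Subgroup G} (hJ : M ⊓ M' ≤ S) {a : G}
    (haS : a ∈ S) (haM : a ∈ M) (haJ : a ∉ M ⊓ M') : M ≤ S := by
  have h6 := h.six
  obtain ⟨ψ, pt, hψ, hmov⟩ := point_rep_pair h.rel (by omega)
  intro m hm
  by_cases hmJ : m ∈ M ⊓ M'
  · exact hJ hmJ
  obtain ⟨g, hg, hgab⟩ := exists_alt_smul (card_fin_five (show 5 ≤ d - 1 by omega))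
    (pt ⟨⟨a, haM⟩, haJ⟩) (pt ⟨⟨m, hm⟩, hmJ⟩)
  obtain ⟨j, rfl⟩ := h.alt_le_point_range hψ hg
  have h1 : m⁻¹ * ((j : G) * a) ∈ M ⊓ M' := hmov j _ _ hgab
  have h2 : ((j : G) * a) * (m⁻¹ * ((j : G) * a))⁻¹ = m := by group
  exact h2 ▸ S.mul_mem (S.mul_mem (hJ j.2) haS) (S.inv_mem (hJ h1))

theorem inf_le_normalizer_D : M ⊓ M' ≤ Subgroup.normalizer (D M M' : Set G) :=
  le_normalizer_inf (inf_le_normalizer_A₁ M M')
    ((inf_comm M M').le.trans (inf_le_normalizer_A₁ M' M))

theorem AltPair.alt_le_im (h : AltPair M M' d) {φ : M →* Perm (Fin d)}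
    (hφ : φ.ker = (A₁ M M').subgroupOf M) {C : Subgroup G} (hC : C ≤ M)
    (hn : M ≤ Subgroup.normalizer (C : Set G)) (hCA : ¬ C ≤ A₁ M M') :
    alternatingGroup (Fin d) ≤ (C.subgroupOf M).map φ := by
  have h6 := h.six
  have hn' : φ.range ≤ Subgroup.normalizer (((C.subgroupOf M).map φ :
      Subgroup (Perm (Fin d))) : Set (Perm (Fin d))) := by
    rw [MonoidHom.range_eq_map, ← Subgroup.subgroupOf_self (H := M)]
    exact le_normalizer_im φ hn
  refine (eq_bot_or_alt_le (card_fin_five (show 5 ≤ d by omega)) (h.alt_le_range hφ)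
    (Subgroup.map_le_range φ _) hn').resolve_left fun hb => hCA ?_
  exact inf_coreIn_eq φ hφ hC hb

theorem le_normalizer_inf_centralizer (M X : Subgroup G) (hX : M ≤ Subgroup.normalizer (X : Set G)) :
    M ≤ Subgroup.normalizer ((M ⊓ Subgroup.centralizer (X : Set G) : Subgroup G) : Set G) :=
  le_normalizer_inf Subgroup.le_normalizer (le_normalizer_centralizer hX)

theorem AltPair.D_eq_bot_aux (h : AltPair M M' d) (e : M ≃* M') (hne : A₁ M M' ≠ ⊥)
    (hne' : A₁ M' M ≠ ⊥) (hA : A₂ M M' = ⊥) : D M M' = ⊥ := by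
  classical
  have h6 := h.six
  have hDA : D M M' ≤ A₁ M M' := inf_le_left
  by_cases hnorm : M ≤ Subgroup.normalizer (D M M' : Set G)
  · rw [← le_bot_iff, ← hA]
    exact le_coreIn (hDA.trans (coreIn_le_left _ _)) le_rfl hnorm
  exfalso
  have hfix : ∀ a ∈ M, a ∈ Subgroup.normalizer (D M M' : Set G) → a ∈ M ⊓ M' := by
    intro a haM haN
    by_contra haJ
    exact hnorm (h.maximal inf_le_normalizer_D haN haM haJ)
  obtain ⟨χ, pt, hχ, -⟩ := point_rep_pair (h.symm e).rel (by omega)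
  have hAJ : A₁ M M' ≤ M' ⊓ M := (A₁_le_inf M M').trans (inf_comm M M').le
  have hY := (h.symm e).alt_le_im_A₁' e.symm hne' hχ
  have h5 := card_fin_five (show 5 ≤ d - 1 by omega)
  haveI := Fintype.ofFinite M
  -- the meet of the conjugates of `D` other than `D`
  set s : Finset M := Finset.univ.filter fun m : M => (m : G) ∉ M ⊓ M'
  obtain ⟨Z, hZY, -, hZN, hZA⟩ := alt_le_map_finset_inf h5 χ hY s
    (fun m => (conjD M M' m).subgroupOf (M' ⊓ M))
    (fun m _ => Subgroup.comap_mono (conjD_le m))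
    (fun m _ => le_normalizer_subgroupOf (le_normalizer_conjD m)) (fun m hm => by
      refine (eq_bot_or_alt_le h5 hY (Subgroup.map_mono (Subgroup.comap_mono (conjD_le m)))
        (le_normalizer_im χ (le_normalizer_conjD m))).resolve_left fun hb => ?_
      refine (Finset.mem_filter.1 hm).2 (hfix _ m.2 ?_)
      have hle : conjD M M' m ≤ D M M' := by
        refine le_inf (conjD_le m) fun x hx => ?_
        have h1 := (Subgroup.map_eq_bot_iff _).1 hb
          (show (⟨x, hAJ (conjD_le m hx)⟩ : (M' ⊓ M : Subgroup G)) ∈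
            (conjD M M' m).subgroupOf (M' ⊓ M) from hx)
        rw [hχ] at h1
        exact h1
      have heq : conjD M M' m = D M M' := Subgroup.eq_of_le_of_card_ge hle
        (Subgroup.card_map_of_injective (MulAut.conj (m : G)).injective).ge
      rw [Subgroup.mem_normalizer_iff]
      intro x
      constructor
      · intro hx
        exact heq.le ⟨x, hx, rfl⟩
      · intro hx
        replace hx : (m : G) * x * (m : G)⁻¹ ∈ D M M' := hx
        rw [← heq] at hx
        obtain ⟨y, hy, hyx⟩ := hx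
        rwa [(MulAut.conj (m : G)).injective
          (show MulAut.conj (m : G) y = MulAut.conj (m : G) x from hyx)] at hy)
  obtain ⟨x, hxZ, hx1⟩ : ∃ x ∈ Z, x ≠ 1 := by
    refine (Subgroup.ne_bot_iff_exists_ne_one.1 ?_).elim fun x hx => ⟨x.1, x.2, fun h' => hx (Subtype.ext h')⟩
    intro hZ
    rw [hZ, Subgroup.map_bot, le_bot_iff] at hZA
    exact alt_not_abelian h5 (by rw [hZA]; exact bot_le)
  have hxA : (x : G) ∈ A₁ M M' := hZY hxZ
  -- `x` centralises `D` and hence `A₁' `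
  have hxD : (x : G) ∈ Subgroup.centralizer (D M M' : Set G) := by
    rw [Subgroup.mem_centralizer_iff]
    intro δ hδ
    have hc : δ * (x : G) * δ⁻¹ * (x : G)⁻¹ = 1 := by
      refine eq_one_of_mem_conjD hA fun m => ?_
      by_cases hm : (m : G) ∈ M ⊓ M'
      · have heq : conjD M M' m = D M M' := by
          refine Subgroup.eq_of_le_of_card_ge ?_
            (Subgroup.card_map_of_injective (MulAut.conj (m : G)).injective).ge
          rintro _ ⟨y, hy, rfl⟩
          exact (Subgroup.mem_normalizer_iff.1 (inf_le_normalizer_D hm) y).1 hy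
        rw [heq, show δ * (x : G) * δ⁻¹ * (x : G)⁻¹ = δ * ((x : G) * δ⁻¹ * (x : G)⁻¹) by group]
        exact mul_mem hδ ((Subgroup.mem_normalizer_iff.1
          (inf_le_normalizer_D (A₁_le_inf M M' hxA)) _).1 (inv_mem hδ))
      · have hxm : (x : G) ∈ conjD M M' m := hZN m (Finset.mem_filter.2 ⟨Finset.mem_univ m, hm⟩) hxZ
        exact mul_mem ((Subgroup.mem_normalizer_iff.1 (le_normalizer_conjD m (hDA hδ)) _).1 hxm)
          (inv_mem hxm)
    rwa [mul_inv_eq_one, mul_inv_eq_iff_eq_mul] at hc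
  have hDab : D M M' ⊓ Subgroup.centralizer (D M M' : Set G) = ⊥ :=
    h.abelian_eq_bot e (inf_le_left.trans (hDA.trans (A₁_le_inf M M')))
      (le_normalizer_inf inf_le_normalizer_D (le_normalizer_centralizer inf_le_normalizer_D))
      (inf_le_right.trans (Subgroup.centralizer_le inf_le_left))
  have hxB : (x : G) ∈ Subgroup.centralizer (A₁ M' M : Set G) := by
    rw [Subgroup.mem_centralizer_iff]
    intro b hb
    have hbJ : b ∈ M ⊓ M' := ((A₁_le_inf M' M).trans (inf_comm M' M).le) hb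
    have hc : b * (x : G) * b⁻¹ * (x : G)⁻¹ ∈
        D M M' ⊓ Subgroup.centralizer (D M M' : Set G) := by
      refine Subgroup.mem_inf.2 ⟨Subgroup.mem_inf.2 ⟨mul_mem
        ((Subgroup.mem_normalizer_iff.1 (inf_le_normalizer_A₁ M M' hbJ) _).1 hxA)
        (inv_mem hxA), ?_⟩, mul_mem ((Subgroup.mem_normalizer_iff.1
          (le_normalizer_centralizer inf_le_normalizer_D hbJ) _).1 hxD) (inv_mem hxD)⟩
      rw [show b * (x : G) * b⁻¹ * (x : G)⁻¹ = b * ((x : G) * b⁻¹ * (x : G)⁻¹) by group]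
      exact mul_mem hb ((Subgroup.mem_normalizer_iff.1
        (inf_le_normalizer_A₁ M' M (hAJ hxA)) _).1 (inv_mem hb))
    rwa [hDab, Subgroup.mem_bot, mul_inv_eq_one, mul_inv_eq_iff_eq_mul] at hc
  -- the two centralisers
  set C' := M' ⊓ Subgroup.centralizer (A₁ M' M : Set G) with hC'
  have hxC' : (x : G) ∈ C' := ⟨(hAJ hxA).1, hxB⟩
  have hC'B : C' ⊓ A₁ M' M = ⊥ :=
    h.abelian_eq_bot e (inf_le_right.trans ((A₁_le_inf M' M).trans (inf_comm M' M).le))
      ((le_normalizer_inf ((le_normalizer_inf_centralizer M' _ (le_normalizer_coreIn _ _)))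
        (le_normalizer_coreIn _ _)).trans' inf_le_right)
      ((inf_le_left.trans inf_le_right).trans (Subgroup.centralizer_le inf_le_right))
  obtain ⟨φ', o', hφ', -⟩ := coset_rep_pair (h.symm e).rel
  have hC'A := (h.symm e).alt_le_im hφ' (inf_le_left : C' ≤ M')
    (le_normalizer_inf_centralizer M' _ (le_normalizer_coreIn _ _)) fun hle => by
      have : (x : G) ∈ C' ⊓ A₁ M' M := ⟨hxC', hle hxC'⟩
      rw [hC'B, Subgroup.mem_bot] at this
      exact hx1 (Subtype.ext this)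
  obtain ⟨φ, o, hφ, ho⟩ := coset_rep_pair h.rel
  set C := M ⊓ Subgroup.centralizer (A₁ M M' : Set G) with hC
  have hCA : C ≤ A₁ M M' := by
    by_contra hCA
    have hCalt := h.alt_le_im hφ (inf_le_left : C ≤ M)
      (le_normalizer_inf_centralizer M _ (le_normalizer_coreIn _ _)) hCA
    obtain ⟨o₂, ho₂⟩ : ∃ o₂, o₂ ≠ o := by
      haveI : Nontrivial (Fin d) := Fin.nontrivial_iff_two_le.2 (by omega)
      exact exists_ne o
    obtain ⟨g, hg, hgo⟩ := exists_alt_smul (card_fin_five (show 5 ≤ d by omega)) o o₂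
    obtain ⟨c, hc, rfl⟩ := hCalt hg
    refine ho₂ (hgo.symm.trans ((ho c).2 (hfix _ c.2 ?_)))
    rw [Subgroup.mem_normalizer_iff]
    intro y
    have hcc : (c : G) ∈ Subgroup.centralizer (A₁ M M' : Set G) := (Subgroup.mem_subgroupOf.1 hc).2
    constructor
    · intro hy
      rw [← Subgroup.mem_centralizer_iff.1 hcc y (hDA hy), mul_inv_cancel_right]
      exact hy
    · intro hy
      have h1 := Subgroup.mem_centralizer_iff.1 hcc _ (hDA hy)
      rw [inv_mul_cancel_right] at h1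
      rwa [← mul_left_cancel h1] at hy
  have hC0 : C = ⊥ :=
    h.abelian_eq_bot e (hCA.trans (A₁_le_inf M M'))
      ((le_normalizer_inf_centralizer M _ (le_normalizer_coreIn _ _)).trans' inf_le_left)
      (inf_le_right.trans (Subgroup.centralizer_le hCA))
  -- pull the centraliser of `A₁'` back to `M`
  set g := φ'.comp e.toMonoidHom with hg
  set Y := (C'.subgroupOf M').map e.symm.toMonoidHom with hYdef
  have hgY : alternatingGroup (Fin d) ≤ Y.map g := by
    refine hC'A.trans ?_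
    rintro _ ⟨y, hy, rfl⟩
    exact ⟨e.symm y, ⟨y, hy, rfl⟩, congrArg φ' (e.apply_symm_apply y)⟩
  haveI : (C'.subgroupOf M').Normal :=
    (Subgroup.normal_subgroupOf_iff_le_normalizer inf_le_left).2
      (le_normalizer_inf_centralizer M' _ (le_normalizer_coreIn _ _))
  haveI hYn : Y.Normal := (inferInstance : (C'.subgroupOf M').Normal).map _ e.symm.surjective
  haveI : ((A₁ M M').subgroupOf M).Normal :=
    (Subgroup.normal_subgroupOf_iff_le_normalizer (coreIn_le_left _ _)).2 (le_normalizer_coreIn _ _)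
  have hI : Y.map g ≤ Subgroup.normalizer (((Y ⊓ (A₁ M M').subgroupOf M).map g :
      Subgroup (Perm (Fin d))) : Set (Perm (Fin d))) :=
    (Subgroup.map_mono (show Y ≤ Subgroup.normalizer ((Y ⊓ (A₁ M M').subgroupOf M : Subgroup M) :
      Set M) from (le_top : Y ≤ ⊤).trans (Subgroup.normalizer_eq_top_iff.2 inferInstance).ge)).trans
      (Subgroup.le_normalizer_map g)
  rcases eq_bot_or_alt_le (card_fin_five (show 5 ≤ d by omega)) hgY (Subgroup.map_mono inf_le_left)
    hI with hb | hb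
  · have hd0 : Y ⊓ (A₁ M M').subgroupOf M = ⊥ := by
      rw [Subgroup.eq_bot_iff_forall]
      rintro _ ⟨⟨y, hy, rfl⟩, hyA⟩
      have h1 := (Subgroup.map_eq_bot_iff _).1 hb ⟨⟨y, hy, rfl⟩, hyA⟩
      have h1' : φ' (e (e.symm y)) = 1 := h1
      rw [e.apply_symm_apply, ← MonoidHom.mem_ker, hφ'] at h1'
      have h2 : (y : G) ∈ C' ⊓ A₁ M' M := ⟨hy, h1'⟩
      rw [hC'B, Subgroup.mem_bot] at h2
      rw [show y = 1 from Subtype.ext h2, map_one]
    have hc := le_centralizer_of_disjoint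
      ((le_top : Y ≤ ⊤).trans (Subgroup.normalizer_eq_top_iff.2 inferInstance).ge)
      ((le_top : _ ≤ ⊤).trans (Subgroup.normalizer_eq_top_iff.2 hYn).ge) hd0
    have hY0 : Y = ⊥ := by
      rw [Subgroup.eq_bot_iff_forall]
      intro y hy
      have h1 : (y : G) ∈ C := ⟨y.2, Subgroup.mem_centralizer_iff.2 fun a ha =>
        congrArg Subtype.val (Subgroup.mem_centralizer_iff.1 (hc hy) ⟨a, coreIn_le_left _ _ ha⟩ ha)⟩
      rw [hC0, Subgroup.mem_bot] at h1
      exact Subtype.ext h1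
    rw [hY0, Subgroup.map_bot, le_bot_iff] at hgY
    exact alt_not_abelian (card_fin_five (show 5 ≤ d by omega)) (by rw [hgY]; exact bot_le)
  · exact not_alt_le_A₁ h.six h.rel' hA (coreIn_le_left _ _) g
      (hb.trans (Subgroup.map_mono inf_le_right))

theorem AltPair.A₁'_ne_bot (h : AltPair M M' d) (e : M ≃* M') (hne : A₁ M M' ≠ ⊥) :
    A₁ M' M ≠ ⊥ := by
  intro hb
  obtain ⟨ψ, pt, hψ, -⟩ := point_rep_pair h.rel (by linarith [h.six])
  have h1 := h.alt_le_im_A₁' e hne hψ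
  rw [hb, Subgroup.bot_subgroupOf, Subgroup.map_bot, le_bot_iff] at h1
  exact alt_not_abelian (card_fin_five (show 5 ≤ d - 1 by have := h.six; omega))
    (by rw [h1]; exact bot_le)

theorem AltPair.D_eq_bot (h : AltPair M M' d) (e : M ≃* M') (hne : A₁ M M' ≠ ⊥) : D M M' = ⊥ := by
  rcases h.cases e with hA | hB
  · exact h.D_eq_bot_aux e hne (h.A₁'_ne_bot e hne) hA
  · rw [D, inf_comm]
    exact (h.symm e).D_eq_bot_aux e.symm (h.A₁'_ne_bot e hne) hne hB

/-- **Structure**: `M` embeds in `S_d × S_{d-1}` over `A_d × A_{d-1}`, and an even action on the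
cosets forces an even second coordinate. -/
theorem AltPair.exists_embedding (h : AltPair M M' d) (e : M ≃* M') (hne : A₁ M M' ≠ ⊥) :
    ∃ Φ : M →* Perm (Fin d) × Perm (Fin (d - 1)), Function.Injective Φ ∧
      (alternatingGroup (Fin d)).prod (alternatingGroup (Fin (d - 1))) ≤ Φ.range ∧
      Nat.card ((MonoidHom.fst (Perm (Fin d)) (Perm (Fin (d - 1)))).comp Φ).range =
        (A₁ M M').relIndex M ∧
      ((∀ m, Perm.sign (Φ m).1 = 1) → ∀ m, Perm.sign (Φ m).2 = 1) := by
  classical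
  have h6 := h.six
  have h5 := card_fin_five (show 5 ≤ d - 1 by omega)
  have hd5 := card_fin_five (show 5 ≤ d by omega)
  have hD := h.D_eq_bot e hne
  have hne' := h.A₁'_ne_bot e hne
  obtain ⟨φ, o, hφ, ho⟩ := coset_rep_pair h.rel
  obtain ⟨ψ, pt, hψ, -⟩ := point_rep_pair h.rel (by omega)
  obtain ⟨χ, pt', hχ, -⟩ := point_rep_pair (h.symm e).rel (by omega)
  have hψB := h.alt_le_im_A₁' e hne hψ
  have hχA := (h.symm e).alt_le_im_A₁' e.symm hne' hχ
  set C := M ⊓ Subgroup.centralizer (A₁ M M' : Set G) with hC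
  have hBJ : A₁ M' M ≤ M ⊓ M' := (A₁_le_inf M' M).trans (inf_comm M' M).le
  have hAJ : A₁ M M' ≤ M' ⊓ M := (A₁_le_inf M M').trans (inf_comm M M').le
  have hBC : A₁ M' M ≤ C := le_inf (hBJ.trans inf_le_left)
    (le_centralizer_of_disjoint (hBJ.trans (inf_le_normalizer_A₁ M M'))
      (hAJ.trans (inf_le_normalizer_A₁ M' M)) (by rw [inf_comm]; exact hD))
  have hCJ : ∀ j ∈ C, j ∈ M ⊓ M' → j ∈ A₁ M' M := by
    intro j hjC hjJ
    have h1 : χ ⟨j, ⟨hjJ.2, hjJ.1⟩⟩ ∈ Subgroup.centralizer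
        (alternatingGroup (Fin (d - 1)) : Set (Perm (Fin (d - 1)))) := by
      rw [Subgroup.mem_centralizer_iff]
      intro y hy
      obtain ⟨a, ha, rfl⟩ := hχA hy
      rw [← map_mul, ← map_mul]
      exact congrArg χ (Subtype.ext (Subgroup.mem_centralizer_iff.1 hjC.2 _
        (Subgroup.mem_subgroupOf.1 ha)))
    rw [centralizer_alt h5, Subgroup.mem_bot, ← MonoidHom.mem_ker, hχ] at h1
    exact h1
  have hCn : M ≤ Subgroup.normalizer (C : Set G) :=
    le_normalizer_inf_centralizer M _ (le_normalizer_coreIn _ _)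
  have hCalt : alternatingGroup (Fin d) ≤ (C.subgroupOf M).map φ := by
    refine h.alt_le_im hφ inf_le_left hCn fun hle => ?_
    have : A₁ M' M ≤ D M M' := le_inf (hBC.trans hle) le_rfl
    exact hne' (le_bot_iff.1 (hD ▸ this))
  -- every element is a product of `C` and `M ⊓ M'`
  have hdec : ∀ m : M, ∃ j : (M' ⊓ M : Subgroup G), (m : G) * (j : G)⁻¹ ∈ C := by
    intro m
    obtain ⟨g, hg, hgo⟩ := exists_alt_smul hd5 o (φ m o)
    obtain ⟨c, hc, rfl⟩ := hCalt hg
    have h1 : φ (c⁻¹ * m) o = o := by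
      rw [map_mul, map_inv, Perm.mul_apply, ← hgo]
      exact (φ c).symm_apply_apply o
    have h2 := (ho _).1 h1
    rw [Subgroup.coe_mul, Subgroup.coe_inv] at h2
    refine ⟨⟨(c : G)⁻¹ * m, h2.2, h2.1⟩, ?_⟩
    show (m : G) * ((c : G)⁻¹ * m)⁻¹ ∈ C
    rw [show (m : G) * ((c : G)⁻¹ * m)⁻¹ = c by group]
    exact Subgroup.mem_subgroupOf.1 hc
  have huniq : ∀ (m : M) (j j' : (M' ⊓ M : Subgroup G)), (m : G) * (j : G)⁻¹ ∈ C →
      (m : G) * (j' : G)⁻¹ ∈ C → χ j = χ j' := by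
    intro m j j' hj hj'
    have h1 : (j' : G) * (j : G)⁻¹ ∈ C := by
      rw [show (j' : G) * (j : G)⁻¹ = ((m : G) * (j' : G)⁻¹)⁻¹ * ((m : G) * (j : G)⁻¹) by group]
      exact mul_mem (inv_mem hj') hj
    have h2 := hCJ _ h1 (Subgroup.mem_inf.2 ⟨mul_mem j'.2.2 (inv_mem j.2.2), mul_mem j'.2.1 (inv_mem j.2.1)⟩)
    have h3 : j' * j⁻¹ ∈ χ.ker := by rw [hχ]; exact h2
    rw [MonoidHom.mem_ker, map_mul, map_inv, mul_inv_eq_one] at h3
    exact h3.symm
  let χ' : M →* Perm (Fin (d - 1)) := MonoidHom.mk' (fun m => χ (hdec m).choose) fun m n => by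
    rw [← map_mul]
    refine huniq (m * n) _ _ (hdec (m * n)).choose_spec ?_
    set j := (hdec m).choose
    set k := (hdec n).choose
    rw [Subgroup.coe_mul, Subgroup.coe_mul, show (m : G) * n * ((j : G) * k)⁻¹ =
      ((m : G) * (j : G)⁻¹) * ((j : G) * ((n : G) * (k : G)⁻¹) * (j : G)⁻¹) by group]
    exact mul_mem (hdec m).choose_spec
      ((Subgroup.mem_normalizer_iff.1 (hCn j.2.2) _).1 (hdec n).choose_spec)
  have hχ'eq : ∀ (m : M) (j : (M' ⊓ M : Subgroup G)), (m : G) * (j : G)⁻¹ ∈ C → χ' m = χ j :=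
    fun m j hj => huniq m _ _ (hdec m).choose_spec hj
  have hχ'C : ∀ m : M, (m : G) ∈ C → χ' m = 1 := fun m hm => by
    rw [hχ'eq m 1 (by simpa using hm), map_one]
  have hCker : ∀ m : M, χ' m = 1 → (m : G) ∈ C := by
    intro m hm
    have h1 : χ (hdec m).choose = 1 := hm
    rw [← MonoidHom.mem_ker, hχ] at h1
    have h1' : ((hdec m).choose : G) ∈ A₁ M' M := h1
    have h2 := mul_mem (hdec m).choose_spec (hBC h1')
    rwa [inv_mul_cancel_right] at h2
  have hχ'A : ∀ (m : M) (hm : (m : G) ∈ A₁ M M'), χ' m = χ ⟨m, hAJ hm⟩ := fun m hm =>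
    hχ'eq m _ (by simp)
  let Φ := φ.prod χ'
  have hinj : Function.Injective Φ := by
    rw [← MonoidHom.ker_eq_bot_iff, Subgroup.eq_bot_iff_forall]
    intro m hm
    have hm1 : φ m = 1 := congrArg Prod.fst hm
    have hm2 : χ' m = 1 := congrArg Prod.snd hm
    rw [← MonoidHom.mem_ker, hφ] at hm1
    have hmB : (m : G) ∈ A₁ M' M := hCJ _ (hCker m hm2) (A₁_le_inf M M' hm1)
    have : (m : G) ∈ D M M' := ⟨hm1, hmB⟩
    rw [hD, Subgroup.mem_bot] at this
    exact Subtype.ext this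
  have hA1 : ∀ y ∈ alternatingGroup (Fin (d - 1)), ((1 : Perm (Fin d)), y) ∈ Φ.range := by
    intro y hy
    obtain ⟨a, ha, rfl⟩ := hχA hy
    have ha' : (a : G) ∈ A₁ M M' := Subgroup.mem_subgroupOf.1 ha
    refine ⟨⟨a, a.2.2⟩, Prod.ext ?_ (hχ'A ⟨a, a.2.2⟩ ha')⟩
    show φ _ = 1
    rw [← MonoidHom.mem_ker, hφ]
    exact ha'
  have hA2 : ∀ x ∈ alternatingGroup (Fin d), (x, (1 : Perm (Fin (d - 1)))) ∈ Φ.range := by
    intro x hx
    obtain ⟨c, hc, rfl⟩ := hCalt hx
    exact ⟨c, Prod.ext rfl (hχ'C c (Subgroup.mem_subgroupOf.1 hc))⟩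
  have hcardφ : Nat.card φ.range = (A₁ M M').relIndex M := by
    rw [← Subgroup.index_ker, hφ]; rfl
  refine ⟨Φ, hinj, ?_, ?_, ?_⟩
  · rintro ⟨x, y⟩ ⟨hx, hy⟩
    have := mul_mem (hA2 x hx) (hA1 y hy)
    rwa [Prod.mk_mul_mk, mul_one, one_mul] at this
  · rw [MonoidHom.fst_comp_prod]; exact hcardφ
  intro heven m₀
  by_contra hodd
  have hm₀ : Perm.sign (Φ m₀).2 = -1 := (Int.units_eq_one_or _).resolve_left hodd
  -- then `A₁ ≅ S_{d-1}` and `M = C A₁`
  have hfull : ∀ y : Perm (Fin (d - 1)), ((1 : Perm (Fin d)), y) ∈ Φ.range := by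
    intro y
    rcases Int.units_eq_one_or (Perm.sign y) with hy | hy
    · exact hA1 y hy
    have h1 := mul_mem (mul_mem (inv_mem (hA2 _ (heven m₀))) ⟨m₀, rfl⟩)
      (hA1 ((Φ m₀).2⁻¹ * y) (by rw [Equiv.Perm.mem_alternatingGroup, map_mul, map_inv, hm₀, hy]; decide))
    simp only [Prod.inv_mk, Prod.mk_mul_mk, inv_one, one_mul] at h1
    convert h1 using 1
    ext <;> simp [Φ]
  have hsplit : ∀ m : M, ∃ a : M, (a : G) ∈ A₁ M M' ∧ ((m * a⁻¹ : M) : G) ∈ C := by
    intro m
    obtain ⟨a, ha⟩ := hfull (χ' m)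
    have ha1 : φ a = 1 := congrArg Prod.fst ha
    have ha2 : χ' a = χ' m := congrArg Prod.snd ha
    rw [← MonoidHom.mem_ker, hφ] at ha1
    exact ⟨a, ha1, hCker _ (by rw [map_mul, map_inv, ha2, mul_inv_cancel])⟩
  -- orders
  have hAcard : Nat.card (A₁ M M') = Nat.factorial (d - 1) := by
    have hbij : Function.Bijective (fun a : A₁ M M' => χ ⟨a.1, hAJ a.2⟩) := by
      constructor
      · intro a b hab
        have h1 : (⟨a.1, hAJ a.2⟩ : (M' ⊓ M : Subgroup G)) * (⟨b.1, hAJ b.2⟩)⁻¹ ∈ χ.ker := by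
          rw [MonoidHom.mem_ker, map_mul, map_inv, mul_inv_eq_one]
          exact hab
        rw [hχ] at h1
        have h2 : (a : G) * (b : G)⁻¹ ∈ D M M' := Subgroup.mem_inf.2 ⟨mul_mem a.2 (inv_mem b.2), h1⟩
        rw [hD, Subgroup.mem_bot, mul_inv_eq_one] at h2
        exact Subtype.ext h2
      · intro y
        obtain ⟨a, ha⟩ := hfull y
        have ha1 : φ a = 1 := congrArg Prod.fst ha
        rw [← MonoidHom.mem_ker, hφ] at ha1
        exact ⟨⟨a, ha1⟩, (hχ'A a ha1).symm.trans (congrArg Prod.snd ha)⟩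
    rw [Nat.card_eq_of_bijective _ hbij, Nat.card_perm, Nat.card_fin]
  have hφle : φ.range ≤ alternatingGroup (Fin d) := by
    rintro _ ⟨m, rfl⟩
    exact heven m
  have hidx : (A₁ M M').relIndex M = Nat.card (alternatingGroup (Fin d)) := by
    rw [← hcardφ, le_antisymm hφle (h.alt_le_range hφ)]
  have hd2 := two_mul_card_alt hd5
  rw [Nat.card_fin] at hd2
  have hfac : d * Nat.factorial (d - 1) = Nat.factorial d := Nat.mul_factorial_pred (by omega)
  have hMcard : Nat.card (A₁ M M') * (A₁ M M').relIndex M = Nat.card M := by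
    rw [← Nat.card_congr (Subgroup.subgroupOfEquivOfLe (coreIn_le_left M (M ⊓ M'))).toEquiv]
    exact Subgroup.card_mul_index _
  have hBcard : Nat.card (A₁ M' M) ≤ (A₁ M M').relIndex (M ⊓ M') := by
    have h1 : Nat.card ψ.range = (A₁ M M').relIndex (M ⊓ M') := by
      rw [← Subgroup.index_ker, hψ]; rfl
    rw [← h1]
    refine Nat.card_le_card_of_injective (fun b => ⟨ψ ⟨b.1, hBJ b.2⟩, _, rfl⟩) fun a b hab => ?_
    have h2 : (⟨a.1, hBJ a.2⟩ : (M ⊓ M' : Subgroup G)) * (⟨b.1, hBJ b.2⟩)⁻¹ ∈ ψ.ker := by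
      rw [MonoidHom.mem_ker, map_mul, map_inv, mul_inv_eq_one]
      exact congrArg Subtype.val hab
    rw [hψ] at h2
    have h3 : (a : G) * (b : G)⁻¹ ∈ D M M' := Subgroup.mem_inf.2 ⟨h2, mul_mem a.2 (inv_mem b.2)⟩
    rw [hD, Subgroup.mem_bot, mul_inv_eq_one] at h3
    exact Subtype.ext h3
  -- so `M'` maps onto the symmetric group
  obtain ⟨φ', o', hφ', -⟩ := coset_rep_pair (h.symm e).rel
  have hMcard' : Nat.card (A₁ M' M) * Nat.card φ'.range = Nat.card M' := by
    rw [← Subgroup.index_ker, hφ',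
      ← Nat.card_congr (Subgroup.subgroupOfEquivOfLe (coreIn_le_left M' (M' ⊓ M))).toEquiv]
    exact Subgroup.card_mul_index _
  have honto : Nat.factorial d ≤ Nat.card φ'.range := by
    rw [← Nat.card_congr e.toEquiv, ← hMcard, hAcard, hidx] at hMcard'
    have hJ := A₁_relIndex_mul (M := M) (M' := M') h.rel
    rw [hidx] at hJ
    have h1 := Nat.mul_le_mul_right (Nat.card φ'.range) hBcard
    rw [hMcard'] at h1
    have h2 : 0 < Nat.card (alternatingGroup (Fin d)) := Nat.card_pos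
    have h3 := Nat.mul_le_mul_left d h1
    rw [← mul_assoc, hfac, ← mul_assoc, mul_comm d ((A₁ M M').relIndex (M ⊓ M')), hJ,
      mul_comm (Nat.factorial d)] at h3
    exact Nat.le_of_mul_le_mul_left h3 h2
  set g := φ'.comp e.toMonoidHom with hg
  have hgr : g.range = ⊤ := by
    rw [hg, MonoidHom.range_comp, MonoidHom.range_eq_top.2 e.surjective, ← MonoidHom.range_eq_map]
    exact Subgroup.eq_top_of_card_eq _ (le_antisymm (Subgroup.card_le_card_group _)
      (by rwa [Nat.card_perm, Nat.card_fin]))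
  have hnorm : ∀ K : Subgroup G, K ≤ M → M ≤ Subgroup.normalizer (K : Set G) →
      (K.subgroupOf M).map g = ⊥ ∨ alternatingGroup (Fin d) ≤ (K.subgroupOf M).map g := by
    intro K hK hKn
    refine eq_bot_or_alt_le hd5 (S := g.range) (hgr ▸ le_top) (Subgroup.map_le_range g _) ?_
    rw [MonoidHom.range_eq_map, ← Subgroup.subgroupOf_self (H := M)]
    exact le_normalizer_im g hKn
  have hsmall : ∀ K : Subgroup G, K ≤ M → Nat.card K < Nat.factorial d →
      (∀ m : M, ∃ k : M, (k : G) ∈ K ∧ g m = g k) → False := by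
    intro K hK hlt hall
    have h1 : g.range ≤ (K.subgroupOf M).map g := by
      rintro _ ⟨m, rfl⟩
      obtain ⟨k, hk, hmk⟩ := hall m
      exact ⟨k, hk, hmk.symm⟩
    have h2 := (Subgroup.card_le_of_le h1).trans (Nat.le_of_dvd Nat.card_pos (Subgroup.card_map_dvd _ g))
    rw [hgr, Subgroup.card_top, Nat.card_perm, Nat.card_fin,
      Nat.card_congr (Subgroup.subgroupOfEquivOfLe hK).toEquiv] at h2
    omega
  have hCcard : Nat.card C ≤ Nat.card (alternatingGroup (Fin d)) := by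
    refine Nat.card_le_card_of_injective
      (fun c => ⟨φ ⟨c.1, c.2.1⟩, hφle ⟨_, rfl⟩⟩) fun a b hab => ?_
    have h1 : Φ ⟨a.1, a.2.1⟩ = Φ ⟨b.1, b.2.1⟩ := Prod.ext (congrArg Subtype.val hab)
      ((hχ'C _ a.2).trans (hχ'C _ b.2).symm)
    exact Subtype.ext (congrArg (fun t : M => (t : G)) (hinj h1))
  have hpos := Nat.factorial_pos (d - 1)
  rcases hnorm (A₁ M M') (coreIn_le_left _ _) (le_normalizer_coreIn _ _) with ha | ha
  · refine hsmall C inf_le_left ?_ fun m => ?_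
    · have : 0 < Nat.card (alternatingGroup (Fin d)) := Nat.card_pos
      omega
    obtain ⟨a, ha1, hac⟩ := hsplit m
    refine ⟨m * a⁻¹, hac, ?_⟩
    rw [map_mul, map_inv, show g a = 1 from (Subgroup.map_eq_bot_iff _).1 ha ha1, inv_one, mul_one]
  rcases hnorm C inf_le_left hCn with hc | hc
  · refine hsmall (A₁ M M') (coreIn_le_left _ _) ?_ fun m => ?_
    · rw [hAcard]
      exact Nat.factorial_lt_of_lt (by omega) (by omega)
    obtain ⟨a, ha1, hac⟩ := hsplit m
    refine ⟨a, ha1, ?_⟩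
    have := (Subgroup.map_eq_bot_iff _).1 hc (show m * a⁻¹ ∈ C.subgroupOf M from hac)
    rwa [MonoidHom.mem_ker, map_mul, map_inv, mul_inv_eq_one] at this
  refine alt_not_abelian hd5 fun y hy => ?_
  rw [Subgroup.mem_centralizer_iff]
  intro z hz
  obtain ⟨a, ha1, rfl⟩ := ha hz
  obtain ⟨c, hc1, rfl⟩ := hc hy
  rw [← map_mul, ← map_mul]
  exact congrArg g (Subtype.ext (Subgroup.mem_centralizer_iff.1
    (Subgroup.mem_subgroupOf.1 hc1).2 _ (Subgroup.mem_subgroupOf.1 ha1)))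

end CfsgLib.ThompsonWielandt
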