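import Cfsg.Agent.Lib.Layer.Basic
import Cfsg.Agent.Lib.Layer.FStar

/-!
# The Thompson–Wielandt cores of two maximal subgroups: the generalized Fitting subgroup

For distinct core-free maximal subgroups `M`, `M'` whose second cores are both non-trivial,
`F*(M) = O_p(M)` for a prime `p`.
-/

set_option autoImplicit false
set_option linter.unusedSectionVars false

namespace CfsgLib.ThompsonWielandt

open Cfsg

variable {G : Type*} [Group G]

/-- The largest subgroup of `M ⊓ K` normalized by `M`. -/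
def coreIn (M K : Subgroup G) : Subgroup G := (K.subgroupOf M).normalCore.map M.subtype

theorem coreIn_le_left (M K : Subgroup G) : coreIn M K ≤ M := Subgroup.map_subtype_le _

theorem coreIn_le_right (M K : Subgroup G) : coreIn M K ≤ K :=
  (Subgroup.map_mono (Subgroup.normalCore_le _)).trans
    (by rw [Subgroup.subgroupOf_map_subtype]; exact inf_le_left)

theorem le_normalizer_map {M : Subgroup G} (N : Subgroup M) [N.Normal] :
    M ≤ Subgroup.normalizer ((N.map M.subtype : Subgroup G) : Set G) := by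
  intro m hm
  rw [Subgroup.mem_normalizer_iff]
  intro x
  constructor
  · rintro ⟨k, hk, rfl⟩
    exact ⟨⟨m, hm⟩ * k * ⟨m, hm⟩⁻¹, (inferInstance : N.Normal).conj_mem k hk _, rfl⟩
  · rintro ⟨k, hk, hke⟩
    refine ⟨⟨m, hm⟩⁻¹ * k * ⟨m, hm⟩, ?_, ?_⟩
    · simpa using (inferInstance : N.Normal).conj_mem k hk (⟨m, hm⟩⁻¹)
    · change m⁻¹ * (k : G) * m = x
      rw [show (k : G) = m * x * m⁻¹ from hke]
      group

theorem le_normalizer_coreIn (M K : Subgroup G) :
    M ≤ Subgroup.normalizer (coreIn M K : Set G) :=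
  le_normalizer_map _

theorem le_coreIn {M K X : Subgroup G} (hXM : X ≤ M) (hXK : X ≤ K)
    (hn : M ≤ Subgroup.normalizer (X : Set G)) : X ≤ coreIn M K := by
  haveI : (X.subgroupOf M).Normal := (Subgroup.normal_subgroupOf_iff_le_normalizer hXM).2 hn
  have h : X.subgroupOf M ≤ (K.subgroupOf M).normalCore :=
    Subgroup.normal_le_normalCore.2 fun x hx => hXK hx
  have h2 := Subgroup.map_mono (f := M.subtype) h
  rwa [Subgroup.map_subgroupOf_eq_of_le hXM] at h2

theorem le_normalizer_inf {J X Y : Subgroup G} (hX : J ≤ Subgroup.normalizer (X : Set G))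
    (hY : J ≤ Subgroup.normalizer (Y : Set G)) :
    J ≤ Subgroup.normalizer ((X ⊓ Y : Subgroup G) : Set G) := by
  intro j hj
  rw [Subgroup.mem_normalizer_iff]
  intro x
  simp only [Subgroup.mem_inf]
  exact and_congr (Subgroup.mem_normalizer_iff.1 (hX hj) x) (Subgroup.mem_normalizer_iff.1 (hY hj) x)

theorem le_normalizer_centralizer {J X : Subgroup G} (hX : J ≤ Subgroup.normalizer (X : Set G)) :
    J ≤ Subgroup.normalizer (Subgroup.centralizer (X : Set G) : Set G) := by
  have key : ∀ j ∈ Subgroup.normalizer (X : Set G), ∀ c ∈ Subgroup.centralizer (X : Set G),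
      j * c * j⁻¹ ∈ Subgroup.centralizer (X : Set G) := by
    intro j hj c hc
    rw [Subgroup.mem_centralizer_iff] at hc ⊢
    intro x hx
    have hx' : j⁻¹ * x * j ∈ X := by
      have := (Subgroup.mem_normalizer_iff.1 (inv_mem hj) x).1 hx
      rwa [inv_inv] at this
    have := hc _ hx'
    calc x * (j * c * j⁻¹) = j * ((j⁻¹ * x * j) * c) * j⁻¹ := by group
      _ = j * (c * (j⁻¹ * x * j)) * j⁻¹ := by rw [this]
      _ = j * c * j⁻¹ * x := by group
  intro j hj
  rw [Subgroup.mem_normalizer_iff]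
  intro c
  refine ⟨key j (hX hj) c, fun h => ?_⟩
  have := key j⁻¹ (inv_mem (hX hj)) _ h
  rwa [inv_inv, show j⁻¹ * (j * c * j⁻¹) * j = c by group] at this

/-- Distinct core-free maximal subgroups with their iterated cores. -/
structure Pair (M M' : Subgroup G) : Prop where
  maxM : IsCoatom M
  maxM' : IsCoatom M'
  coreM : M.normalCore = ⊥
  coreM' : M'.normalCore = ⊥
  ne : M ≠ M'

theorem Pair.symm {M M' : Subgroup G} (h : Pair M M') : Pair M' M :=
  ⟨h.maxM', h.maxM, h.coreM', h.coreM, h.ne.symm⟩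

theorem normalizer_eq {M X : Subgroup G} (hmax : IsCoatom M) (hcore : M.normalCore = ⊥) (hX : X ≠ ⊥)
    (hXM : X ≤ M) (hn : M ≤ Subgroup.normalizer (X : Set G)) :
    Subgroup.normalizer (X : Set G) = M := by
  rcases hmax.le_iff.1 hn with h | h
  · exfalso
    haveI : X.Normal := Subgroup.normalizer_eq_top_iff.1 h
    exact hX (eq_bot_iff.2 (hcore ▸ Subgroup.normal_le_normalCore.2 hXM))
  · exact h

theorem centralizer_le {M X : Subgroup G} (hmax : IsCoatom M) (hcore : M.normalCore = ⊥) (hX : X ≠ ⊥)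
    (hXM : X ≤ M) (hn : M ≤ Subgroup.normalizer (X : Set G)) :
    Subgroup.centralizer (X : Set G) ≤ M := by
  rw [← normalizer_eq hmax hcore hX hXM hn]
  intro c hc
  rw [Subgroup.mem_normalizer_iff]
  intro x
  rw [Subgroup.mem_centralizer_iff] at hc
  constructor
  · intro hx
    rw [← hc x hx, mul_inv_cancel_right]
    exact hx
  · intro hx
    have h1 := hc _ hx
    rw [inv_mul_cancel_right] at h1
    rwa [← mul_left_cancel h1] at hx

variable (M M' : Subgroup G)

/-- The kernel `A₁`. -/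
abbrev A₁ : Subgroup G := coreIn M (M ⊓ M')

/-- The meet of the two kernels. -/
abbrev D : Subgroup G := A₁ M M' ⊓ A₁ M' M

/-- The second core. -/
abbrev A₂ : Subgroup G := coreIn M (D M M')

theorem A₂_le_A₁ : A₂ M M' ≤ A₁ M M' := (coreIn_le_right _ _).trans inf_le_left

theorem A₂_le_A₁' : A₂ M M' ≤ A₁ M' M := (coreIn_le_right _ _).trans inf_le_right

theorem A₁_le_inf : A₁ M M' ≤ M ⊓ M' := coreIn_le_right _ _

theorem inf_le_normalizer_A₁ : M ⊓ M' ≤ Subgroup.normalizer (A₁ M M' : Set G) :=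
  inf_le_left.trans (le_normalizer_coreIn _ _)

variable {M M'}

theorem Pair.inf_centralizer_A₁ (h : Pair M M') (hB : A₂ M' M ≠ ⊥) :
    M ⊓ Subgroup.centralizer (A₁ M M' : Set G) ≤ A₁ M M' := by
  refine le_coreIn inf_le_left (le_inf inf_le_left ?_) ?_
  · refine inf_le_right.trans ((Subgroup.centralizer_le ?_).trans
      (centralizer_le h.maxM' h.coreM' hB (coreIn_le_left _ _) (le_normalizer_coreIn _ _)))
    exact A₂_le_A₁' M' M
  · exact le_normalizer_inf Subgroup.le_normalizer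
      (le_normalizer_centralizer (le_normalizer_coreIn _ _))

section layer

variable [Finite G]

/-- `L` is a component of the subgroup `H`. -/
def CompOf (L H : Subgroup G) : Prop := L ≤ H ∧ IsComponent (L.subgroupOf H)

theorem CompOf.le_or (L H X : Subgroup G) (hL : CompOf L H) (hXH : X ≤ H)
    (hn : H ≤ Subgroup.normalizer (X : Set G)) :
    L ≤ X ∨ L ≤ Subgroup.centralizer (X : Set G) := by
  haveI : (X.subgroupOf H).Normal := (Subgroup.normal_subgroupOf_iff_le_normalizer hXH).2 hn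
  rcases CfsgLib.Layer.le_or_commutator_eq_bot hL.2
    (inferInstance : (X.subgroupOf H).Normal).isSubnormal with h | h
  · left
    intro x hx
    exact h (x := ⟨x, hL.1 hx⟩) (Subgroup.mem_subgroupOf.2 hx)
  · right
    exact Subgroup.commutator_eq_bot_iff_le_centralizer.1
      ((CfsgLib.Layer.commutator_subgroupOf_eq_bot hL.1 hXH).1 h)

theorem CompOf.restrict {L H K : Subgroup G} (hL : CompOf L H) (hLK : L ≤ K) (hKH : K ≤ H) :
    CompOf L K := by
  refine ⟨hLK, ?_⟩
  have h1 := CfsgLib.Layer.isComponent_subgroupOf hL.2 (H := K.subgroupOf H)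
    (fun x hx => hLK hx)
  let e := Subgroup.subgroupOfEquivOfLe hKH
  have h2 := CfsgLib.Layer.isComponent_map_equiv e h1
  have heq : ((L.subgroupOf H).subgroupOf (K.subgroupOf H)).map e.toMonoidHom = L.subgroupOf K := by
    ext x
    constructor
    · rintro ⟨y, hy, rfl⟩
      exact hy
    · intro hx
      exact ⟨e.symm x, hx, e.apply_symm_apply x⟩
  rwa [heq] at h2

theorem CompOf.lift {L H K : Subgroup G} (hL : CompOf L K) (hKH : K ≤ H)
    (hn : H ≤ Subgroup.normalizer (K : Set G)) : CompOf L H := by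
  refine ⟨hL.1.trans hKH, ?_⟩
  haveI : (K.subgroupOf H).Normal := (Subgroup.normal_subgroupOf_iff_le_normalizer hKH).2 hn
  let e := (Subgroup.subgroupOfEquivOfLe hKH).symm
  have h1 := CfsgLib.Layer.isComponent_map_equiv e hL.2
  have h2 := (CfsgLib.Layer.isComponent_map_subtype_iff
    (inferInstance : (K.subgroupOf H).Normal).isSubnormal _).1 h1
  have heq : ((L.subgroupOf K).map e.toMonoidHom).map (K.subgroupOf H).subtype = L.subgroupOf H := by
    ext x
    constructor
    · rintro ⟨_, ⟨y, hy, rfl⟩, rfl⟩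
      exact hy
    · intro hx
      exact ⟨e ⟨x.1, hL.1 hx⟩, ⟨⟨x.1, hL.1 hx⟩, hx, rfl⟩, rfl⟩
  rwa [heq] at h2

theorem Pair.compOf_symm (h : Pair M M') (hA : A₂ M M' ≠ ⊥) (hB : A₂ M' M ≠ ⊥) {L : Subgroup G}
    (hL : CompOf L M) : CompOf L M' := by
  have hne : L.subgroupOf M ≠ ⊥ := CfsgLib.Layer.ne_bot_of_isComponent hL.2
  have hperf := CfsgLib.Layer.not_isSolvable_of_isComponent hL.2
  -- a component cannot centralise a subgroup whose centraliser it lies in
  have hab : ∀ X : Subgroup G, L ≤ X → L ≤ Subgroup.centralizer (X : Set G) → False := by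
    intro X hX hC
    refine hperf (Group.isSolvable_of_comm fun a b => ?_)
    refine Subtype.ext (Subtype.ext ?_)
    exact Subgroup.mem_centralizer_iff.1 (hC (Subgroup.mem_subgroupOf.1 b.2)) _
      (hX (Subgroup.mem_subgroupOf.1 a.2))
  -- `L ≤ A₁`
  have hLA : L ≤ A₁ M M' := by
    rcases CompOf.le_or L M (A₁ M M') hL (coreIn_le_left _ _) (le_normalizer_coreIn _ _) with h1 | h1
    · exact h1
    · exact (le_inf hL.1 h1).trans (h.inf_centralizer_A₁ hB)
  have hLJ : CompOf L (M ⊓ M') := hL.restrict (hLA.trans (A₁_le_inf M M')) inf_le_left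
  have hLB : L ≤ A₁ M' M := by
    rcases CompOf.le_or L (M ⊓ M') (A₁ M' M) hLJ ((A₁_le_inf M' M).trans (inf_comm M' M).le)
      ((inf_comm M M').le.trans (inf_le_normalizer_A₁ M' M)) with h1 | h1
    · exact h1
    · exact (le_inf (hLJ.1.trans inf_le_right) h1).trans (h.symm.inf_centralizer_A₁ hA)
  exact (hLJ.restrict hLB ((A₁_le_inf M' M).trans (inf_comm M' M).le)).lift (coreIn_le_left _ _)
    (le_normalizer_coreIn _ _)

theorem compOf_iff {L : Subgroup M} : CompOf (L.map M.subtype) M ↔ IsComponent L := by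
  rw [CompOf, Subgroup.subgroupOf, Subgroup.comap_map_eq_self_of_injective M.subtype_injective]
  exact and_iff_right (Subgroup.map_subtype_le L)

theorem Pair.map_layer_le (h : Pair M M') (hA : A₂ M M' ≠ ⊥) (hB : A₂ M' M ≠ ⊥) :
    (layer M).map M.subtype ≤ (layer M').map M'.subtype := by
  rw [layer, Subgroup.map_le_iff_le_comap]
  refine sSup_le fun K hK => ?_
  rw [← Subgroup.map_le_iff_le_comap]
  obtain ⟨h1, h2⟩ := h.compOf_symm hA hB (compOf_iff.2 hK)
  have := Subgroup.map_mono (f := M'.subtype) (CfsgLib.Layer.isComponent_le_layer h2)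
  rwa [Subgroup.map_subgroupOf_eq_of_le h1] at this

theorem Pair.layer_eq_bot (h : Pair M M') (hA : A₂ M M' ≠ ⊥) (hB : A₂ M' M ≠ ⊥) : layer M = ⊥ := by
  set E := (layer M).map M.subtype with hE
  have heq : E = (layer M').map M'.subtype :=
    le_antisymm (h.map_layer_le hA hB) (h.symm.map_layer_le hB hA)
  by_contra hne
  have hEne : E ≠ ⊥ := fun e => hne (by
    rw [hE, Subgroup.map_eq_bot_iff_of_injective _ M.subtype_injective] at e; exact e)
  refine h.ne ?_
  haveI := CfsgLib.Layer.layer_normal (G := M)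
  haveI := CfsgLib.Layer.layer_normal (G := M')
  rw [← normalizer_eq h.maxM h.coreM hEne (Subgroup.map_subtype_le _) (le_normalizer_map _),
    ← normalizer_eq h.maxM' h.coreM' hEne (heq ▸ Subgroup.map_subtype_le _)
      (heq ▸ le_normalizer_map _)]

end layer

section fitting

variable [Finite G]

/-- `O_r` of a subgroup. -/
def coreP (r : ℕ) (X : Subgroup G) : Subgroup G := (pCore r X).map X.subtype

theorem coreP_le (r : ℕ) (X : Subgroup G) : coreP r X ≤ X := Subgroup.map_subtype_le _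

theorem isPGroup_coreP (r : ℕ) (X : Subgroup G) : IsPGroup r (coreP r X) :=
  (CfsgLib.Fitting.pCore_isPGroup r).map _

theorem le_normalizer_coreP {J X : Subgroup G} (r : ℕ) (hX : J ≤ Subgroup.normalizer (X : Set G)) :
    J ≤ Subgroup.normalizer (coreP r X : Set G) := by
  intro j hj
  have hjX := hX hj
  rw [Subgroup.mem_normalizer_iff]
  have key : ∀ j : G, j ∈ Subgroup.normalizer (X : Set G) → ∀ x ∈ coreP r X,
      j * x * j⁻¹ ∈ coreP r X := by
    rintro j hj _ ⟨⟨x, hxX⟩, hx, rfl⟩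
    let φ : X ≃* X :=
      { toFun := fun y => ⟨j * y * j⁻¹, (Subgroup.mem_normalizer_iff.1 hj y).1 y.2⟩
        invFun := fun y => ⟨j⁻¹ * y * j, by
          have := (Subgroup.mem_normalizer_iff.1 (inv_mem hj) y).1 y.2
          rwa [inv_inv] at this⟩
        left_inv := fun y => Subtype.ext (show j⁻¹ * (j * y * j⁻¹) * j = (y : G) by group)
        right_inv := fun y => Subtype.ext (show j * (j⁻¹ * y * j) * j⁻¹ = (y : G) by group)
        map_mul' := fun y y' => Subtype.ext
          (show j * ((y : G) * y') * j⁻¹ = j * y * j⁻¹ * (j * y' * j⁻¹) by group) }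
    haveI := CfsgLib.Fitting.pCore_normal (G := X) r
    have hle : (pCore r X).map φ.toMonoidHom ≤ pCore r X :=
      CfsgLib.Fitting.le_pCore ((CfsgLib.Fitting.pCore_normal r).map _ φ.surjective)
        ((CfsgLib.Fitting.pCore_isPGroup r).map _)
    exact ⟨φ ⟨x, hxX⟩, hle ⟨_, hx, rfl⟩, rfl⟩
  intro x
  refine ⟨key j hjX x, fun h => ?_⟩
  have := key j⁻¹ (inv_mem hjX) _ h
  rwa [inv_inv, show j⁻¹ * (j * x * j⁻¹) * j = x by group] at this

theorem le_coreP {r : ℕ} {X Y : Subgroup G} (hY : IsPGroup r Y) (hYX : Y ≤ X)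
    (hn : X ≤ Subgroup.normalizer (Y : Set G)) : Y ≤ coreP r X := by
  haveI : (Y.subgroupOf X).Normal := (Subgroup.normal_subgroupOf_iff_le_normalizer hYX).2 hn
  have h := CfsgLib.Fitting.le_pCore (G := X) (inferInstance : (Y.subgroupOf X).Normal)
    (hY.of_equiv (Subgroup.subgroupOfEquivOfLe hYX).symm)
  have h2 := Subgroup.map_mono (f := X.subtype) h
  rwa [Subgroup.map_subgroupOf_eq_of_le hYX] at h2

theorem le_centralizer_of_disjoint {X Y : Subgroup G} (hXY : X ≤ Subgroup.normalizer (Y : Set G))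
    (hYX : Y ≤ Subgroup.normalizer (X : Set G)) (hd : X ⊓ Y = ⊥) :
    X ≤ Subgroup.centralizer (Y : Set G) := by
  intro x hx
  rw [Subgroup.mem_centralizer_iff]
  intro y hy
  have h1 : y * x * y⁻¹ * x⁻¹ ∈ X ⊓ Y := by
    refine Subgroup.mem_inf.2 ⟨X.mul_mem ((Subgroup.mem_normalizer_iff.1 (hYX hy) x).1 hx)
      (X.inv_mem hx), ?_⟩
    rw [show y * x * y⁻¹ * x⁻¹ = y * (x * y⁻¹ * x⁻¹) by group]
    exact Y.mul_mem hy ((Subgroup.mem_normalizer_iff.1 (hXY hx) y⁻¹).1 (Y.inv_mem hy))
  rw [hd, Subgroup.mem_bot, mul_inv_eq_one, mul_inv_eq_iff_eq_mul] at h1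
  exact h1

theorem inf_eq_bot_of_isPGroup {r t : ℕ} [Fact r.Prime] [Fact t.Prime] (hrt : r ≠ t)
    {X Y : Subgroup G} (hX : IsPGroup r X) (hY : IsPGroup t Y) : X ⊓ Y = ⊥ :=
  disjoint_iff.1 (IsPGroup.disjoint_of_ne r t hrt _ _ hX hY)

/-- If `O_t(A₂) ≠ 1` then `O_r(A₁) ≤ O_r(B₁)` for every prime `r ≠ t`. -/
theorem Pair.coreP_le_coreP (h : Pair M M') {r t : ℕ} [Fact r.Prime] [Fact t.Prime] (hrt : r ≠ t)
    (ht : coreP t (A₂ M M') ≠ ⊥) : coreP r (A₁ M M') ≤ coreP r (A₁ M' M) := by
  set R := coreP r (A₁ M M')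
  set T := coreP t (A₁ M' M)
  have hRJ : R ≤ M ⊓ M' := (coreP_le _ _).trans (A₁_le_inf M M')
  have hTJ : T ≤ M ⊓ M' := (coreP_le _ _).trans ((A₁_le_inf M' M).trans (inf_comm M' M).le)
  have hA2T : coreP t (A₂ M M') ≤ T := by
    refine le_coreP (isPGroup_coreP _ _) ((coreP_le _ _).trans (A₂_le_A₁' M M')) ?_
    exact ((A₁_le_inf M' M).trans inf_le_right).trans
      (le_normalizer_coreP _ (le_normalizer_coreIn _ _))
  set C := M' ⊓ Subgroup.centralizer (T : Set G)
  have hCM : C ≤ M := inf_le_right.trans ((Subgroup.centralizer_le hA2T).trans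
    (centralizer_le h.maxM h.coreM ht ((coreP_le _ _).trans (coreIn_le_left _ _))
      (le_normalizer_coreP _ (le_normalizer_coreIn _ _))))
  have hC : C ≤ A₁ M' M := le_coreIn inf_le_left (le_inf inf_le_left hCM)
    (le_normalizer_inf Subgroup.le_normalizer
      (le_normalizer_centralizer (le_normalizer_coreP _ (le_normalizer_coreIn _ _))))
  have hRT : R ≤ Subgroup.centralizer (T : Set G) :=
    le_centralizer_of_disjoint
      ((hRJ.trans inf_le_right).trans (le_normalizer_coreP _ (le_normalizer_coreIn _ _)))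
      ((hTJ.trans inf_le_left).trans (le_normalizer_coreP _ (le_normalizer_coreIn _ _)))
      (inf_eq_bot_of_isPGroup hrt (isPGroup_coreP _ _) (isPGroup_coreP _ _))
  refine le_coreP (isPGroup_coreP _ _) ((le_inf (hRJ.trans inf_le_right) hRT).trans hC) ?_
  exact ((A₁_le_inf M' M).trans inf_le_right).trans
    (le_normalizer_coreP _ (le_normalizer_coreIn _ _))

theorem exists_coreP_ne_bot {X : Subgroup G} (hX : X ≠ ⊥) (hl : layer X = ⊥) :
    ∃ p : ℕ, p.Prime ∧ coreP p X ≠ ⊥ := by
  have hF : fittingSubgroup X ≠ ⊥ := by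
    intro hF
    have h := CfsgLib.Layer.centralizer_generalizedFitting_le (G := X)
    rw [generalizedFittingSubgroup, hl, hF, bot_sup_eq, le_bot_iff] at h
    refine hX ?_
    rw [← Subgroup.card_eq_one]
    have htop : (⊤ : Subgroup X) = ⊥ := by
      rw [← h]
      refine le_antisymm (fun x _ => ?_) le_top
      rw [Subgroup.mem_centralizer_iff]
      intro y hy
      rw [Subgroup.coe_bot, Set.mem_singleton_iff] at hy
      rw [hy, one_mul, mul_one]
    rw [← Subgroup.card_top (G := X), htop, Subgroup.card_bot]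
  haveI := CfsgLib.Fitting.fittingSubgroup_isNilpotent (G := X)
  haveI := CfsgLib.Fitting.fittingSubgroup_normal (G := X)
  obtain ⟨p, hp, hpd⟩ := Nat.exists_prime_and_dvd
    (show Nat.card (fittingSubgroup X) ≠ 1 from fun e => hF (Subgroup.card_eq_one.1 e))
  haveI := Fact.mk hp
  refine ⟨p, hp, fun e => ?_⟩
  let P : Sylow p (fittingSubgroup X) := default
  haveI := P.characteristic_of_normal inferInstance
  have hle := CfsgLib.Fitting.le_pCore (G := X)
    (inferInstance : ((P : Subgroup (fittingSubgroup X)).map (fittingSubgroup X).subtype).Normal)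
    (P.2.map _)
  have hbot : (P : Subgroup (fittingSubgroup X)) = ⊥ := by
    rw [coreP, Subgroup.map_eq_bot_iff_of_injective _ X.subtype_injective] at e
    rw [e, le_bot_iff, Subgroup.map_eq_bot_iff_of_injective _ (Subgroup.subtype_injective _)] at hle
    exact hle
  exact P.ne_bot_of_dvd_card hpd hbot

theorem fitting_eq_pCore {H : Type*} [Group H] [Finite H] {p : ℕ} [Fact p.Prime]
    (h : ∀ r : ℕ, r.Prime → r ≠ p → pCore r H = ⊥) : fittingSubgroup H = pCore p H := by
  haveI := CfsgLib.Fitting.fittingSubgroup_isNilpotent (G := H)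
  haveI := CfsgLib.Fitting.fittingSubgroup_normal (G := H)
  refine le_antisymm (CfsgLib.Fitting.le_pCore inferInstance ?_)
    (CfsgLib.Fitting.pCore_le_fittingSubgroup p)
  rw [IsPGroup.iff_card]
  refine ⟨_, Nat.eq_prime_pow_of_unique_prime_dvd Nat.card_pos.ne' fun {r} hr hrd => ?_⟩
  by_contra hrp
  haveI := Fact.mk hr
  let P : Sylow r (fittingSubgroup H) := default
  haveI := P.characteristic_of_normal inferInstance
  have hle := CfsgLib.Fitting.le_pCore (G := H)
    (inferInstance : ((P : Subgroup (fittingSubgroup H)).map (fittingSubgroup H).subtype).Normal)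
    (P.2.map _)
  rw [h r hr hrp, le_bot_iff,
    Subgroup.map_eq_bot_iff_of_injective _ (Subgroup.subtype_injective _)] at hle
  exact P.ne_bot_of_dvd_card hrd hle

theorem Pair.layer_A₂_eq_bot (h : Pair M M') (hA : A₂ M M' ≠ ⊥) (hB : A₂ M' M ≠ ⊥)
    {X : Subgroup G} (hX : X ≤ M) (hn : M ≤ Subgroup.normalizer (X : Set G)) : layer X = ⊥ := by
  rw [CfsgLib.Layer.layer_eq_bot_iff]
  intro K hK
  exact (CfsgLib.Layer.layer_eq_bot_iff.1 (h.layer_eq_bot hA hB)) _
    ((compOf_iff.2 hK).lift hX hn).2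

/-- One prime lies in both second cores. -/
theorem Pair.exists_prime (h : Pair M M') (hA : A₂ M M' ≠ ⊥) (hB : A₂ M' M ≠ ⊥) :
    ∃ p : ℕ, p.Prime ∧ coreP p (A₂ M M') ≠ ⊥ ∧ coreP p (A₂ M' M) ≠ ⊥ := by
  obtain ⟨p, hp, hpA⟩ := exists_coreP_ne_bot hA (h.layer_A₂_eq_bot hA hB (coreIn_le_left _ _) (le_normalizer_coreIn _ _))
  haveI := Fact.mk hp
  obtain ⟨s, hs, hsB⟩ := exists_coreP_ne_bot hB (h.symm.layer_A₂_eq_bot hB hA (coreIn_le_left _ _) (le_normalizer_coreIn _ _))
  haveI := Fact.mk hs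
  have hpB : coreP p (A₂ M' M) ≠ ⊥ := by
    by_cases hps : p = s
    · rwa [hps]
    intro hbot
    have h1 : coreP p (A₁ M' M) ≤ coreP p (A₁ M M') := h.symm.coreP_le_coreP hps hsB
    have h2 : coreP p (A₁ M' M) ≤ A₂ M' M :=
      le_coreIn ((coreP_le _ _).trans (coreIn_le_left _ _))
        (le_inf (coreP_le _ _) (h1.trans (coreP_le _ _)))
        (le_normalizer_coreP _ (le_normalizer_coreIn _ _))
    have h3 : coreP p (A₁ M' M) ≤ coreP p (A₂ M' M) :=
      le_coreP (isPGroup_coreP _ _) h2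
        ((coreIn_le_left _ _).trans (le_normalizer_coreP _ (le_normalizer_coreIn _ _)))
    have h4 : coreP p (A₂ M M') ≤ coreP p (A₁ M' M) :=
      le_coreP (isPGroup_coreP _ _) ((coreP_le _ _).trans (A₂_le_A₁' M M'))
        (((A₁_le_inf M' M).trans inf_le_right).trans
          (le_normalizer_coreP _ (le_normalizer_coreIn _ _)))
    rw [hbot] at h3
    exact hpA (le_bot_iff.1 (h4.trans h3))
  exact ⟨p, hp, hpA, hpB⟩

theorem Pair.coreP_A₁_eq_bot (h : Pair M M') {p : ℕ} [Fact p.Prime] (hpA : coreP p (A₂ M M') ≠ ⊥)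
    (hpB : coreP p (A₂ M' M) ≠ ⊥) : ∀ r : ℕ, r.Prime → r ≠ p → coreP r (A₁ M M') = ⊥ := by
  intro r hr hrp
  haveI := Fact.mk hr
  have heq : coreP r (A₁ M M') = coreP r (A₁ M' M) :=
    le_antisymm (h.coreP_le_coreP hrp hpA) (h.symm.coreP_le_coreP hrp hpB)
  by_contra hne
  refine h.ne ?_
  rw [← normalizer_eq h.maxM h.coreM hne ((coreP_le _ _).trans (coreIn_le_left _ _))
    (le_normalizer_coreP _ (le_normalizer_coreIn _ _))]
  rw [heq] at hne ⊢
  rw [normalizer_eq h.maxM' h.coreM' hne ((coreP_le _ _).trans (coreIn_le_left _ _))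
    (le_normalizer_coreP _ (le_normalizer_coreIn _ _))]

/-- **Thompson–Wielandt**: `F*(M) = O_p(M)`. -/
theorem Pair.generalizedFitting (h : Pair M M') (hA : A₂ M M' ≠ ⊥) (hB : A₂ M' M ≠ ⊥) {p : ℕ}
    [Fact p.Prime] (hpA : coreP p (A₂ M M') ≠ ⊥) (hpB : coreP p (A₂ M' M) ≠ ⊥) :
    generalizedFittingSubgroup M = pCore p M := by
  have hl := h.layer_eq_bot hA hB
  have hR := h.coreP_A₁_eq_bot hpA hpB
  have hM : ∀ r : ℕ, r.Prime → r ≠ p → pCore r M = ⊥ := by
    intro r hr hrp
    set R := coreP r M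
    have hRn : M ≤ Subgroup.normalizer (R : Set G) := le_normalizer_coreP r Subgroup.le_normalizer
    have hd : R ⊓ A₁ M M' = ⊥ := by
      rw [← le_bot_iff, ← hR r hr hrp]
      exact le_coreP ((isPGroup_coreP r M).to_le inf_le_left) inf_le_right
        (le_normalizer_inf ((coreIn_le_left _ _).trans hRn) Subgroup.le_normalizer)
    have hc : R ≤ Subgroup.centralizer (A₁ M M' : Set G) :=
      le_centralizer_of_disjoint ((coreP_le r M).trans (le_normalizer_coreIn _ _))
        ((coreIn_le_left _ _).trans hRn) hd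
    have hle : R ≤ A₁ M M' := (le_inf (coreP_le r M) hc).trans (h.inf_centralizer_A₁ hB)
    rw [inf_eq_left.2 hle] at hd
    replace hd : (pCore r M).map M.subtype = ⊥ := hd
    rw [Subgroup.map_eq_bot_iff_of_injective _ M.subtype_injective] at hd
    exact hd
  rw [generalizedFittingSubgroup, hl, bot_sup_eq, fitting_eq_pCore hM]

/-- **Thompson–Wielandt**: `F*(A₁) = O_p(A₁)`. -/
theorem Pair.generalizedFitting_A₁ (h : Pair M M') (hA : A₂ M M' ≠ ⊥) (hB : A₂ M' M ≠ ⊥) {p : ℕ}
    [Fact p.Prime] (hpA : coreP p (A₂ M M') ≠ ⊥) (hpB : coreP p (A₂ M' M) ≠ ⊥) :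
    generalizedFittingSubgroup (A₁ M M' : Subgroup G) = pCore p (A₁ M M' : Subgroup G) := by
  rw [generalizedFittingSubgroup, h.layer_A₂_eq_bot hA hB (coreIn_le_left _ _)
    (le_normalizer_coreIn _ _), bot_sup_eq, fitting_eq_pCore (p := p) fun r hr hrp => ?_]
  have := h.coreP_A₁_eq_bot hpA hpB r hr hrp
  exact (Subgroup.map_eq_bot_iff_of_injective _ (Subgroup.subtype_injective _)).1 this

end fitting

end CfsgLib.ThompsonWielandt
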