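import Cfsg.Agent.Lib.ThompsonWielandt.AltImage

/-!
# Coset representations of a pair of maximal subgroups
-/

set_option autoImplicit false
set_option linter.unusedSectionVars false

namespace CfsgLib.ThompsonWielandt

open Equiv

variable {X : Type*} [Group X] [Finite X]

theorem exists_coset_rep (H : Subgroup X) (n : ℕ) (hn : H.index = n) :
    ∃ (f : X →* Perm (Fin n)) (o : Fin n), f.ker = H.normalCore ∧ (∀ x, f x o = o ↔ x ∈ H) := by
  classical
  subst hn
  let ε : X ⧸ H ≃ Fin H.index := Finite.equivFinOfCardEq rfl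
  refine ⟨(ε.permCongrHom.toMonoidHom).comp (MulAction.toPermHom X (X ⧸ H)),
    ε (QuotientGroup.mk 1), ?_, fun x => ?_⟩
  · rw [MonoidHom.ker_comp_of_injective (hg := ε.permCongrHom.injective), Subgroup.normalCore_eq_ker]
  · simp only [MonoidHom.coe_comp, MulEquiv.coe_toMonoidHom, Function.comp_apply,
      Equiv.permCongrHom_coe, Equiv.permCongr_apply, Equiv.symm_apply_apply, EmbeddingLike.apply_eq_iff_eq]
    show x • (QuotientGroup.mk 1 : X ⧸ H) = QuotientGroup.mk 1 ↔ _
    rw [MulAction.Quotient.smul_mk, smul_eq_mul, mul_one, QuotientGroup.eq]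
    simp

theorem exists_point_rep (H : Subgroup X) (n : ℕ) (hn : H.index = n + 1) :
    ∃ (g : H →* Perm (Fin n)) (pt : {x : X // x ∉ H} → Fin n),
      g.ker = H.normalCore.subgroupOf H ∧
      (∀ a b, pt a = pt b → (a : X)⁻¹ * b ∈ H) ∧
      ∀ (j : H) (a b : {x : X // x ∉ H}), g j (pt a) = pt b → (b : X)⁻¹ * (j * a) ∈ H := by
  classical
  obtain ⟨f, o, hker, ho⟩ := exists_coset_rep H (n + 1) hn
  let P : Fin (n + 1) → Prop := fun q => q ≠ o
  have hP : ∀ (j : H) (q : Fin (n + 1)), P (f j q) ↔ P q := by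
    intro j q
    have hj : f j o = o := (ho j).2 j.2
    simp only [P, not_iff_not]
    constructor
    · intro h
      exact (f j).injective (h.trans hj.symm)
    · rintro rfl
      exact hj
  let g₀ : H →* Perm {q : Fin (n + 1) // P q} :=
    { toFun := fun j => (f j).subtypePerm (hP j)
      map_one' := by ext q; simp
      map_mul' := fun i j => Equiv.ext fun q => Subtype.ext (show f ((i * j : H) : X) q = f i (f j q) by
        rw [Subgroup.coe_mul, map_mul]; rfl) }
  have hcard : Nat.card {q : Fin (n + 1) // P q} = n := by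
    rw [Nat.card_eq_fintype_card, Fintype.card_subtype_compl, Fintype.card_fin,
      Fintype.card_subtype_eq]
    omega
  let ε : {q : Fin (n + 1) // P q} ≃ Fin n := Finite.equivFinOfCardEq hcard
  let pt₀ : {x : X // x ∉ H} → {q : Fin (n + 1) // P q} := fun x =>
    ⟨f x o, fun h => x.2 ((ho x).1 h)⟩
  have hinj : ∀ x y : X, f x o = f y o → x⁻¹ * y ∈ H := by
    intro x y h
    rw [← ho, map_mul, Perm.mul_apply, ← h, map_inv]
    exact (f x).symm_apply_apply o
  refine ⟨ε.permCongrHom.toMonoidHom.comp g₀, fun x => ε (pt₀ x), ?_, fun a b h => ?_, fun j a b h => ?_⟩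
  · rw [MonoidHom.ker_comp_of_injective (hg := ε.permCongrHom.injective), ← hker]
    ext j
    rw [Subgroup.mem_subgroupOf, MonoidHom.mem_ker, MonoidHom.mem_ker]
    constructor
    · intro h
      refine Equiv.ext fun q => ?_
      by_cases hq : q = o
      · rw [hq]; exact (ho j).2 j.2
      · exact congrArg Subtype.val (Equiv.ext_iff.1 h ⟨q, hq⟩)
    · intro h
      exact Equiv.ext fun q => Subtype.ext (Equiv.ext_iff.1 h q.1)
  · exact hinj _ _ (congrArg Subtype.val (ε.injective h))
  · simp only [MonoidHom.coe_comp, MulEquiv.coe_toMonoidHom, Function.comp_apply,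
      Equiv.permCongrHom_coe, Equiv.permCongr_apply, Equiv.symm_apply_apply,
      EmbeddingLike.apply_eq_iff_eq] at h
    have h' : f j (f a o) = f b o := congrArg Subtype.val h
    rw [← Perm.mul_apply, ← map_mul] at h'
    exact hinj _ _ h'.symm

end CfsgLib.ThompsonWielandt
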