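import Cfsg.Agent.Lib.ThompsonWielandt.Basic

/-!
# The order of a maximal subgroup with trivial second core
-/

set_option autoImplicit false

namespace CfsgLib.ThompsonWielandt

variable {M : Type*} [Group M] [Finite M]

theorem relIndex_normalCore_dvd_factorial (H : Subgroup M) :
    H.normalCore.relIndex H ∣ Nat.factorial (H.index - 1) := by
  classical
  have : Fintype (M ⧸ H) := Fintype.ofFinite _
  set q : M ⧸ H := QuotientGroup.mk 1 with hq
  set S := MulAction.stabilizer (Equiv.Perm (M ⧸ H)) q with hS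
  have hle : H.map (MulAction.toPermHom M (M ⧸ H)) ≤ S := by
    rintro _ ⟨x, hx, rfl⟩
    rw [hS, MulAction.mem_stabilizer_iff]
    show x • (QuotientGroup.mk 1 : M ⧸ H) = QuotientGroup.mk 1
    rw [MulAction.Quotient.smul_mk, smul_eq_mul, mul_one, QuotientGroup.eq]
    simpa using hx
  have hS : Nat.card S = Nat.factorial (H.index - 1) := by
    haveI : MulAction.IsPretransitive (Equiv.Perm (M ⧸ H)) (M ⧸ H) :=
      ⟨fun x y => ⟨Equiv.swap x y, Equiv.swap_apply_left x y⟩⟩
    have h1 : Nat.card S * S.index = Nat.card (Equiv.Perm (M ⧸ H)) := Subgroup.card_mul_index S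
    rw [MulAction.index_stabilizer_of_transitive, Nat.card_perm] at h1
    rw [Subgroup.index]
    have h2 : 0 < Nat.card (M ⧸ H) := Nat.card_pos
    rw [← Nat.mul_factorial_pred h2.ne', mul_comm] at h1
    exact Nat.eq_of_mul_eq_mul_left h2 h1
  rw [Subgroup.normalCore_eq_ker, Subgroup.relIndex_ker, ← hS]
  exact Subgroup.card_dvd_of_le hle

theorem index_normalCore_dvd_factorial (H : Subgroup M) :
    H.normalCore.index ∣ Nat.factorial H.index := by
  classical
  rw [Subgroup.normalCore_eq_ker, Subgroup.index_ker, Subgroup.index, ← Nat.card_perm]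
  exact Subgroup.card_subgroup_dvd_card _

theorem index_iInf_dvd {ι : Type*} {e : ℕ} (s : Finset ι) (T : ι → Subgroup M)
    (hn : ∀ i, (T i).Normal) (he : ∀ i, (T i).index ∣ e) :
    (⨅ i ∈ s, T i).index ∣ e ^ s.card := by
  classical
  induction s using Finset.induction_on with
  | empty => simp
  | @insert a s ha ih =>
    rw [Finset.iInf_insert, Finset.card_insert_of_notMem ha, pow_succ']
    rw [← Subgroup.relIndex_mul_index (inf_le_right : T a ⊓ ⨅ i ∈ s, T i ≤ _),
      Subgroup.inf_relIndex_right]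
    haveI := hn a
    exact mul_dvd_mul ((Subgroup.relIndex_dvd_index_of_normal _ _).trans (he a)) ih

theorem relIndex_normalCore_dvd_pow {N H S : Subgroup M} [N.Normal] (hNH : N ≤ H)
    (hHn : H ≤ Subgroup.normalizer (S : Set M)) {e : ℕ} (he : S.relIndex N ∣ e) :
    S.normalCore.relIndex N ∣ e ^ H.index := by
  classical
  haveI : Fintype (M ⧸ H) := Fintype.ofFinite _
  haveI hSn : (S.subgroupOf N).Normal := by
    rw [← Subgroup.inf_subgroupOf_right]
    refine (Subgroup.normal_subgroupOf_iff_le_normalizer inf_le_right).2 ?_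
    exact le_normalizer_inf (hNH.trans hHn) Subgroup.le_normalizer
  set T : M ⧸ H → Subgroup N := fun q =>
    (S.subgroupOf N).comap (MulAut.conjNormal (q.out)⁻¹ : MulAut N).toMonoidHom with hT
  have h := index_iInf_dvd (e := e) Finset.univ T (fun q => hSn.comap _)
    (fun q => by rw [hT, Subgroup.index_comap_of_surjective]
                 · exact he
                 · exact MulEquiv.surjective _)
  rw [Finset.card_univ, ← Nat.card_eq_fintype_card] at h
  refine (Subgroup.index_dvd_of_le ?_).trans h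
  intro x hx
  simp only [Subgroup.mem_iInf, Finset.mem_univ, true_implies] at hx
  rw [Subgroup.mem_subgroupOf]
  intro g
  obtain ⟨k, hk⟩ : ∃ k : H, g⁻¹ = ((g⁻¹ : M) : M ⧸ H).out * k := by
    obtain ⟨k, hk⟩ := QuotientGroup.mk_out_eq_mul H g⁻¹
    exact ⟨k⁻¹, by rw [hk]; simp⟩
  set r := ((g⁻¹ : M) : M ⧸ H).out
  have h1 : r⁻¹ * (x : M) * r ∈ S := by
    have h2 := hx ((g⁻¹ : M) : M ⧸ H)
    rw [hT, Subgroup.mem_comap, Subgroup.mem_subgroupOf, MulEquiv.coe_toMonoidHom,
      MulAut.conjNormal_apply, inv_inv] at h2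
    exact h2
  have h3 := (Subgroup.mem_normalizer_iff.1 (hHn (inv_mem k.2)) _).1 h1
  rw [show g = (g⁻¹)⁻¹ from (inv_inv g).symm, hk]
  convert h3 using 1
  group

end CfsgLib.ThompsonWielandt

namespace CfsgLib.ThompsonWielandt

variable {G : Type*} [Group G] [Finite G]

/-- If `[M : M ⊓ M'] = [M' : M ⊓ M'] = d` then the second core of `M` has index dividing
`d! ((d-1)!) ^ d` in `M`. -/
theorem index_A₂_dvd {M M' : Subgroup G} {d : ℕ} (hd : (M ⊓ M').relIndex M = d)
    (hd' : (M ⊓ M').relIndex M' = d) :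
    (A₂ M M').relIndex M ∣ Nat.factorial d * Nat.factorial (d - 1) ^ d := by
  set H := (M ⊓ M').subgroupOf M
  set S := (D M M').subgroupOf M
  have hN : (A₁ M M').subgroupOf M = H.normalCore :=
    Subgroup.comap_map_eq_self_of_injective M.subtype_injective _
  have hcore : (A₂ M M').subgroupOf M = S.normalCore :=
    Subgroup.comap_map_eq_self_of_injective M.subtype_injective _
  have hB : (A₁ M' M).relIndex (M ⊓ M') ∣ Nat.factorial (d - 1) := by
    have h := relIndex_normalCore_dvd_factorial ((M' ⊓ M).subgroupOf M')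
    rw [← Subgroup.relIndex_map_map_of_injective _ _ M'.subtype_injective,
      Subgroup.map_subgroupOf_eq_of_le inf_le_left, inf_comm M' M] at h
    rw [A₁, coreIn]
    convert h using 3
    · rw [inf_comm]
    · exact (hd'.symm.trans rfl)
  have hDA : (D M M').relIndex (A₁ M M') ∣ Nat.factorial (d - 1) := by
    refine Dvd.dvd.trans ?_ hB
    rw [D, inf_comm, Subgroup.inf_relIndex_right]
    set J := M ⊓ M'
    haveI : ((A₁ M' M).subgroupOf J).Normal :=
      (Subgroup.normal_subgroupOf_iff_le_normalizer ((A₁_le_inf M' M).trans (inf_comm M' M).le)).2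
        ((inf_comm M M').le.trans (inf_le_normalizer_A₁ M' M))
    have h := Subgroup.relIndex_dvd_index_of_normal ((A₁ M' M).subgroupOf J) ((A₁ M M').subgroupOf J)
    rw [Subgroup.subgroupOf, Subgroup.relIndex_comap, ← Subgroup.subgroupOf,
      Subgroup.map_subgroupOf_eq_of_le (A₁_le_inf M M')] at h
    exact h
  have hS : S.relIndex H.normalCore ∣ Nat.factorial (d - 1) := by
    rw [← hN]
    show ((D M M').comap M.subtype).relIndex ((A₁ M M').subgroupOf M) ∣ _
    rw [Subgroup.relIndex_comap, Subgroup.map_subgroupOf_eq_of_le (coreIn_le_left _ _)]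
    exact hDA
  have hHS : H ≤ Subgroup.normalizer (S : Set M) :=
    (Subgroup.comap_mono (f := M.subtype) (le_normalizer_inf (inf_le_normalizer_A₁ M M')
      ((inf_comm M M').le.trans (inf_le_normalizer_A₁ M' M)))).trans
      (Subgroup.le_normalizer_comap _)
  have h := relIndex_normalCore_dvd_pow (Subgroup.normalCore_le H) hHS hS
  have hidx : H.index = d := hd
  rw [hidx] at h
  have hle : S.normalCore ≤ H.normalCore := by
    rw [← hcore, ← hN]
    exact Subgroup.comap_mono (A₂_le_A₁ M M')
  rw [Subgroup.relIndex, hcore, ← Subgroup.relIndex_mul_index hle, mul_comm]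
  exact mul_dvd_mul (hidx ▸ index_normalCore_dvd_factorial H) h

/-- If the second core of `M` is trivial then `|M|` divides `d! ((d-1)!) ^ d`. -/
theorem card_dvd_of_A₂_eq_bot {M M' : Subgroup G} {d : ℕ} (hd : (M ⊓ M').relIndex M = d)
    (hd' : (M ⊓ M').relIndex M' = d) (hA : A₂ M M' = ⊥) :
    Nat.card M ∣ Nat.factorial d * Nat.factorial (d - 1) ^ d := by
  have h := index_A₂_dvd hd hd'
  rwa [hA, Subgroup.relIndex_bot_left] at h

end CfsgLib.ThompsonWielandt
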