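import Cfsg.Agent.Lib.ThompsonWielandt.CubicOrbit

/-!
# A maximal subgroup with dihedral quotient of order `2q` over its 2-core has `q ≤ 3`
-/

set_option autoImplicit false
set_option linter.unusedSectionVars false

namespace CfsgLib.ThompsonWielandt

open Cfsg
open scoped Pointwise

variable {G : Type*} [Group G] [Finite G]

/-- An elementary abelian 2-subgroup of `J`. -/
def ElemIn (J X : Subgroup G) : Prop :=
  X ≤ J ∧ X ≤ Subgroup.centralizer (X : Set G) ∧ ∀ x ∈ X, x ^ 2 = 1

theorem elemIn_sup {J X Y : Subgroup G} (hX : ElemIn J X) (hY : ElemIn J Y)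
    (hc : X ≤ Subgroup.centralizer (Y : Set G)) : ElemIn J (X ⊔ Y) := by
  have hc' : Y ≤ Subgroup.centralizer (X : Set G) := Subgroup.le_centralizer_iff.1 hc
  refine ⟨sup_le hX.1 hY.1, ?_, ?_⟩
  · refine sup_le ?_ ?_ <;> rw [Subgroup.le_centralizer_iff]
    · exact sup_le (Subgroup.le_centralizer_iff.1 hX.2.1) hc'
    · exact sup_le hc (Subgroup.le_centralizer_iff.1 hY.2.1)
  · intro z hz
    have hz' : z ∈ ((X : Set G) * (Y : Set G)) := by
      rw [← Subgroup.coe_mul_of_left_le_normalizer_right _ _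
        (hc.trans (Subgroup.centralizer_le_normalizer _))]
      exact hz
    obtain ⟨x, hx, y, hy, rfl⟩ := hz'
    have hcomm : Commute x y := (Subgroup.mem_centralizer_iff.1 (hc hx) y hy).symm
    show (x * y) ^ 2 = 1
    rw [hcomm.mul_pow, hX.2.2 x hx, hY.2.2 y hy, one_mul]

/-- The elements squaring to `1` of the centre of `Q`. -/
def omegaCenter (Q : Subgroup G) : Subgroup G where
  carrier := {x | x ∈ Q ∧ x ∈ Subgroup.centralizer (Q : Set G) ∧ x ^ 2 = 1}
  one_mem' := ⟨one_mem _, one_mem _, one_pow _⟩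
  mul_mem' := by
    rintro a b ⟨ha, ha', ha''⟩ ⟨hb, hb', hb''⟩
    have hc : Commute a b := (Subgroup.mem_centralizer_iff.1 ha' b hb).symm
    exact ⟨mul_mem ha hb, mul_mem ha' hb', by rw [hc.mul_pow, ha'', hb'', one_mul]⟩
  inv_mem' := by
    rintro a ⟨ha, ha', ha''⟩
    exact ⟨inv_mem ha, inv_mem ha', by rw [inv_pow, ha'', inv_one]⟩

theorem relIndex_mul_card {X Y : Subgroup G} (h : X ≤ Y) :
    Nat.card X * X.relIndex Y = Nat.card Y := by
  rw [← Nat.card_congr (Subgroup.subgroupOfEquivOfLe h).toEquiv]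
  exact Subgroup.card_mul_index _

theorem card_mul_relIndex_inf (X Y : Subgroup G) :
    Nat.card (X ⊓ Y : Subgroup G) * X.relIndex Y = Nat.card Y := by
  rw [← Subgroup.inf_relIndex_right]
  exact relIndex_mul_card inf_le_right

theorem mem_normalizer_of_conj_mem {X : Subgroup G} {g : G} (h : ∀ x ∈ X, g * x * g⁻¹ ∈ X) :
    g ∈ Subgroup.normalizer (X : Set G) := by
  have hle : X.map (MulAut.conj g).toMonoidHom ≤ X := by
    rintro _ ⟨x, hx, rfl⟩
    exact h x hx
  have heq := Subgroup.eq_of_le_of_card_ge hle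
    (Subgroup.card_map_of_injective (MulAut.conj g).injective).ge
  rw [Subgroup.mem_normalizer_iff]
  intro x
  refine ⟨h x, fun hx => ?_⟩
  obtain ⟨y, hy, hyx⟩ := heq.ge hx
  rwa [(MulAut.conj g).injective (show MulAut.conj g y = MulAut.conj g x from hyx)] at hy

theorem le_three_of_index {M J Q : Subgroup G} {g : G} {q : ℕ} (hq : q.Prime)
    (hmax : IsCoatom M) (hcore : M.normalCore = ⊥) (hgM : g ∉ M) (hJM : J ≤ M)
    (hJ : IsPGroup 2 J) (hgJ : g ∈ Subgroup.normalizer (J : Set G)) (hQJ : Q ≤ J)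
    (hQn : M ≤ Subgroup.normalizer (Q : Set G)) (hQ2 : Q.relIndex J = 2) (hJq : J.relIndex M = q)
    (hJn : ¬ M ≤ Subgroup.normalizer (J : Set G))
    (hchar : M ⊓ Subgroup.centralizer (Q : Set G) ≤ Q) : q ≤ 3 := by
  classical
  haveI : Fact (Nat.Prime 2) := ⟨Nat.prime_two⟩
  have hkill : ∀ X : Subgroup G, X ≤ M → M ≤ Subgroup.normalizer (X : Set G) →
      g ∈ Subgroup.normalizer (X : Set G) → X = ⊥ := by
    intro X hXM hn hgX
    by_contra hX
    exact hgM (normalizer_eq hmax hcore hX hXM hn ▸ hgX)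
  have hsub : ∀ S : Subgroup G, J ≤ S → S ≤ M → S ≠ J → S = M := by
    intro S hJS hSM hS
    have h := Subgroup.relIndex_mul_relIndex _ _ _ hJS hSM
    rw [hJq] at h
    rcases hq.eq_one_or_self_of_dvd _ (Dvd.intro _ h) with h1 | h1
    · exact absurd (le_antisymm (Subgroup.relIndex_eq_one.1 h1) hJS) hS
    · rw [h1] at h
      exact le_antisymm hSM (Subgroup.relIndex_eq_one.1
        (Nat.eq_of_mul_eq_mul_left hq.pos (h.trans (mul_one q).symm)))
  -- `Ω₁ Z(J)`
  set Z := omegaCenter J with hZ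
  have hZV : Z ≤ omegaCenter Q := by
    rintro x ⟨hx, hx', hx''⟩
    refine ⟨hchar ⟨hJM hx, Subgroup.centralizer_le hQJ hx'⟩, Subgroup.centralizer_le hQJ hx', hx''⟩
  have hgZ : g ∈ Subgroup.normalizer (Z : Set G) := by
    refine mem_normalizer_of_conj_mem fun x hx => ?_
    obtain ⟨hx, hx', hx''⟩ := hx
    exact ⟨(Subgroup.mem_normalizer_iff.1 hgJ x).1 hx,
      (Subgroup.mem_normalizer_iff.1 (le_normalizer_centralizer le_rfl hgJ) x).1 hx',
      by rw [conj_pow, hx'', mul_one, mul_inv_cancel]⟩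
  have hZn : ¬ M ≤ Subgroup.normalizer (Z : Set G) := by
    intro hn
    have hZ0 := hkill Z (fun x hx => hJM hx.1) hn hgZ
    have hJne : J ≠ ⊥ := fun h => by
      rw [h, Subgroup.relIndex_bot_right] at hQ2
      omega
    haveI : Nontrivial J := (Subgroup.nontrivial_iff_ne_bot J).2 hJne
    haveI := hJ.center_nontrivial
    obtain ⟨z, hz⟩ : ∃ z : Subgroup.center J, orderOf z = 2 := by
      obtain ⟨k, hk⟩ := IsPGroup.iff_card.1 (hJ.to_subgroup (Subgroup.center J))
      refine exists_prime_orderOf_dvd_card' 2 ?_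
      rw [hk]
      refine dvd_pow_self 2 fun hk0 => ?_
      rw [hk0, pow_zero] at hk
      exact (Finite.one_lt_card_iff_nontrivial.2 inferInstance).ne' hk
    have hzZ : ((z : J) : G) ∈ Z := ⟨(z : J).2, Subgroup.mem_centralizer_iff.2 fun y hy =>
      congrArg Subtype.val (Subgroup.mem_center_iff.1 z.2 ⟨y, hy⟩), by
      rw [← Subgroup.coe_pow, ← Subgroup.coe_pow, ← hz, pow_orderOf_eq_one]; rfl⟩
    rw [hZ0, Subgroup.mem_bot] at hzZ
    rw [show z = 1 from Subtype.ext (Subtype.ext hzZ), orderOf_one] at hz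
    omega
  set V := omegaCenter Q with hV
  have hVQ : V ≤ Q := fun x hx => hx.1
  have hVn : M ≤ Subgroup.normalizer (V : Set G) := by
    intro m hm
    refine mem_normalizer_of_conj_mem fun x hx => ?_
    obtain ⟨hx, hx', hx''⟩ := hx
    exact ⟨(Subgroup.mem_normalizer_iff.1 (hQn hm) x).1 hx,
      (Subgroup.mem_normalizer_iff.1 (le_normalizer_centralizer hQn hm) x).1 hx',
      by rw [conj_pow, hx'', mul_one, mul_inv_cancel]⟩
  have hVE : ElemIn J V := ⟨hVQ.trans hQJ,
    fun x hx => Subgroup.centralizer_le (show (V : Set G) ⊆ Q from hVQ) hx.2.1, fun x hx => hx.2.2⟩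
  -- an elementary abelian subgroup of largest order outside `Q`
  haveI := Fintype.ofFinite (Subgroup G)
  set s : Finset (Subgroup G) := Finset.univ.filter fun X => ElemIn J X with hs
  obtain ⟨A₀, hA₀, hA₀max⟩ := s.exists_max_image (fun X => Nat.card X)
    ⟨V, Finset.mem_filter.2 ⟨Finset.mem_univ _, hVE⟩⟩
  set n := Nat.card A₀ with hn
  obtain ⟨A, hA, hAn, hAQ⟩ : ∃ A, ElemIn J A ∧ Nat.card A = n ∧ ¬ A ≤ Q := by
    by_contra hall
    push Not at hall
    set U := Subgroup.closure {x : G | ∃ A, ElemIn J A ∧ Nat.card A = n ∧ x ∈ A} with hU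
    have hUQ : U ≤ Q := (Subgroup.closure_le _).2 fun x ⟨A, hA, hAn, hx⟩ => hall A hA hAn hx
    have hUn : ∀ y : G, (∀ A, ElemIn J A → Nat.card A = n → ∀ x ∈ A, y * x * y⁻¹ ∈ J) →
        y ∈ Subgroup.normalizer (U : Set G) := by
      intro y hy
      refine mem_normalizer_of_conj_mem fun x hx => ?_
      have hle : U.map (MulAut.conj y).toMonoidHom ≤ U := by
        rw [hU, MonoidHom.map_closure, Subgroup.closure_le]
        rintro _ ⟨x, ⟨A, hA, hAn, hxA⟩, rfl⟩
        refine Subgroup.subset_closure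
          ⟨A.map (MulAut.conj y).toMonoidHom, ⟨?_, ?_, ?_⟩, ?_, ⟨x, hxA, rfl⟩⟩
        · rintro _ ⟨z, hz, rfl⟩
          exact hy A hA hAn z hz
        · rintro _ ⟨z, hz, rfl⟩
          rw [Subgroup.mem_centralizer_iff]
          rintro _ ⟨w, hw, rfl⟩
          rw [← map_mul, ← map_mul, Subgroup.mem_centralizer_iff.1 (hA.2.1 hz) w hw]
        · rintro _ ⟨z, hz, rfl⟩
          rw [← map_pow, hA.2.2 z hz, map_one]
        · rw [Subgroup.card_map_of_injective (MulAut.conj y).injective, hAn]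
      exact hle ⟨x, hx, rfl⟩
    have hU0 := hkill U (hUQ.trans (hQJ.trans hJM))
      (fun m hm => hUn m fun A hA hAn x hx =>
        hQJ ((Subgroup.mem_normalizer_iff.1 (hQn hm) x).1 (hall A hA hAn hx)))
      (hUn g fun A hA _ x hx => (Subgroup.mem_normalizer_iff.1 hgJ x).1 (hA.1 hx))
    have hA0 : A₀ = ⊥ := le_bot_iff.1 (hU0 ▸ fun x hx =>
      Subgroup.subset_closure ⟨A₀, (Finset.mem_filter.1 hA₀).2, rfl, hx⟩)
    have hZ1 : Nat.card Z ≤ 1 := by
      refine (Subgroup.card_le_of_le hZV).trans ((hA₀max V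
        (Finset.mem_filter.2 ⟨Finset.mem_univ _, hVE⟩)).trans ?_)
      show Nat.card A₀ ≤ 1
      rw [hA0, Subgroup.card_bot]
    refine hZn ?_
    rw [Subgroup.eq_bot_of_card_le Z hZ1]
    exact le_top.trans (Subgroup.normalizer_eq_top_iff.2 inferInstance).ge
  have hQA : Q.relIndex A = 2 := by
    haveI : (Q.subgroupOf J).Normal :=
      (Subgroup.normal_subgroupOf_iff_le_normalizer hQJ).2 (hJM.trans hQn)
    have h := Subgroup.relIndex_dvd_index_of_normal (Q.subgroupOf J) (A.subgroupOf J)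
    rw [Subgroup.subgroupOf, Subgroup.relIndex_comap, Subgroup.map_subgroupOf_eq_of_le hA.1,
      show (Q.comap J.subtype).index = 2 from hQ2] at h
    exact ((Nat.dvd_prime Nat.prime_two).1 h).resolve_left fun h1 =>
      hAQ (Subgroup.relIndex_eq_one.1 h1)
  have hJA : J ≤ Q ⊔ A := by
    have h := Subgroup.relIndex_mul_relIndex Q (Q ⊔ A) J le_sup_left (sup_le hQJ hA.1)
    rw [hQ2] at h
    rcases (Nat.dvd_prime Nat.prime_two).1 (Dvd.intro _ h) with h1 | h1
    · exact absurd (le_sup_right.trans (Subgroup.relIndex_eq_one.1 h1)) hAQ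
    · rw [h1] at h
      exact Subgroup.relIndex_eq_one.1 (by omega)
  have hAV : A ⊓ V ≤ Z := by
    intro x hx
    refine ⟨hA.1 hx.1, ?_, hA.2.2 x hx.1⟩
    refine Subgroup.centralizer_le (show (J : Set G) ⊆ (Q ⊔ A : Subgroup G) from hJA) ?_
    rw [← Subgroup.zpowers_le, Subgroup.le_centralizer_iff]
    refine sup_le ?_ ?_ <;> rw [Subgroup.le_centralizer_iff, Subgroup.zpowers_le]
    · exact hx.2.2.1
    · exact hA.2.1 hx.1
  have hV2 : Nat.card V ≤ 2 * Nat.card Z := by
    have hAQ' : A ⊓ Q ≤ Subgroup.centralizer (V : Set G) := by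
      refine inf_le_right.trans ?_
      rw [Subgroup.le_centralizer_iff]
      exact fun x hx => hx.2.1
    have hE : ElemIn J ((A ⊓ Q) ⊔ V) := elemIn_sup
      ⟨inf_le_left.trans hA.1, (inf_le_left.trans hA.2.1).trans (Subgroup.centralizer_le inf_le_left),
        fun x hx => hA.2.2 x hx.1⟩ hVE hAQ'
    have h1 : Nat.card ((A ⊓ Q) ⊔ V : Subgroup G) ≤ Nat.card A := by
      rw [hAn]
      exact hA₀max _ (Finset.mem_filter.2 ⟨Finset.mem_univ _, hE⟩)
    haveI : (V.subgroupOf ((A ⊓ Q) ⊔ V)).Normal :=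
      (Subgroup.normal_subgroupOf_iff_le_normalizer le_sup_right).2
        (sup_le (hAQ'.trans (Subgroup.centralizer_le_normalizer _)) Subgroup.le_normalizer)
    have h2 := Subgroup.relIndex_sup_right ((A ⊓ Q).subgroupOf ((A ⊓ Q) ⊔ V))
      (V.subgroupOf ((A ⊓ Q) ⊔ V))
    rw [← Subgroup.subgroupOf_sup le_sup_left le_sup_right, Subgroup.subgroupOf_self,
      Subgroup.relIndex_top_right, Subgroup.subgroupOf, Subgroup.subgroupOf, Subgroup.relIndex_comap,
      Subgroup.map_comap_eq_self (by rw [Subgroup.range_subtype]; exact le_sup_left)] at h2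
    have h3 : Nat.card V * V.relIndex (A ⊓ Q) = Nat.card ((A ⊓ Q) ⊔ V : Subgroup G) := by
      rw [← h2]
      exact relIndex_mul_card le_sup_right
    have h4 := card_mul_relIndex_inf V (A ⊓ Q)
    have h5 := card_mul_relIndex_inf Q A
    rw [hQA, inf_comm Q A] at h5
    rw [show V ⊓ (A ⊓ Q) = A ⊓ V by
      rw [← inf_assoc, inf_comm V A, inf_assoc, inf_eq_left.2 hVQ]] at h4
    have h6 := Subgroup.card_le_of_le hAV
    have hr : 0 < V.relIndex (A ⊓ Q) := Nat.pos_of_ne_zero Subgroup.index_ne_zero_of_finite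
    nlinarith
  have hZVlt : Z ≠ V := fun h => hZn (h ▸ hVn)
  have hVcard : Nat.card V = 2 * Nat.card Z := by
    refine le_antisymm hV2 ?_
    have h := relIndex_mul_card hZV
    have h2 : Z.relIndex V ≠ 1 := fun h1 => hZVlt (le_antisymm hZV (Subgroup.relIndex_eq_one.1 h1))
    have h3 : 0 < Z.relIndex V := Nat.pos_of_ne_zero Subgroup.index_ne_zero_of_finite
    rw [← h, mul_comm 2]
    exact Nat.mul_le_mul_left _ (by omega)
  -- the conjugates of `Z` pairwise meet in a central subgroup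
  have hNZ : ∀ m ∈ M, (∀ z ∈ Z, m * z * m⁻¹ ∈ Z) → m ∈ J := by
    intro m hm hmz
    by_contra hmJ
    refine hZn ?_
    have hJZ : J ≤ Subgroup.normalizer (Z : Set G) := by
      refine le_trans ?_ (Subgroup.centralizer_le_normalizer _)
      rw [Subgroup.le_centralizer_iff]
      exact fun x hx => hx.2.1
    have := hsub (Subgroup.normalizer (Z : Set G) ⊓ M) (le_inf hJZ hJM) inf_le_right
      fun h => hmJ (h ▸ ⟨mem_normalizer_of_conj_mem hmz, hm⟩)
    rw [← this]
    exact inf_le_left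
  obtain ⟨m₀, hm₀M, hm₀J⟩ : ∃ m ∈ M, m ∉ J := by
    by_contra h
    push Not at h
    exact hJn ((show M ≤ J from h).trans Subgroup.le_normalizer)
  set W := Z ⊓ Z.map (MulAut.conj m₀).toMonoidHom with hW
  have hWc : M ≤ Subgroup.centralizer (W : Set G) := by
    have hJW : J ≤ Subgroup.centralizer (W : Set G) := by
      rw [Subgroup.le_centralizer_iff]
      exact fun x hx => hx.1.2.1
    have hJmW : J.map (MulAut.conj m₀).toMonoidHom ≤ Subgroup.centralizer (W : Set G) := by
      rintro _ ⟨j, hj, rfl⟩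
      rw [Subgroup.mem_centralizer_iff]
      intro x hx
      obtain ⟨z, hz, rfl⟩ := (Subgroup.mem_inf.1 hx).2
      rw [← map_mul, ← map_mul]
      exact congrArg (MulAut.conj m₀).toMonoidHom (Subgroup.mem_centralizer_iff.1 hz.2.1 j hj).symm
    have hJmM : J.map (MulAut.conj m₀).toMonoidHom ≤ M := by
      rintro _ ⟨j, hj, rfl⟩
      exact mul_mem (mul_mem hm₀M (hJM hj)) (inv_mem hm₀M)
    have := hsub (Subgroup.centralizer (W : Set G) ⊓ M) (le_inf hJW hJM) inf_le_right fun h => by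
      refine hJn ?_
      have hle : J.map (MulAut.conj m₀).toMonoidHom ≤ J := (le_inf hJmW hJmM).trans h.le
      have hm₀N : m₀ ∈ Subgroup.normalizer (J : Set G) :=
        mem_normalizer_of_conj_mem fun x hx => hle ⟨x, hx, rfl⟩
      have := hsub (Subgroup.normalizer (J : Set G) ⊓ M) (le_inf Subgroup.le_normalizer hJM)
        inf_le_right fun h' => hm₀J (h' ▸ ⟨hm₀N, hm₀M⟩)
      rw [← this]
      exact inf_le_left
    rw [← this]
    exact inf_le_left
  have hconjV : ∀ m ∈ M, ∀ z ∈ Z, m * z * m⁻¹ ∈ V := fun m hm z hz =>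
    (Subgroup.mem_normalizer_iff.1 (hVn hm) z).1 (hZV hz)
  have hWV : W ≤ V := inf_le_left.trans hZV
  have hW4 : Nat.card V ≤ 4 * Nat.card W := by
    have hmV : Z.map (MulAut.conj m₀).toMonoidHom ≤ V := by
      rintro _ ⟨z, hz, rfl⟩
      exact hconjV m₀ hm₀M z hz
    haveI : ((Z.map (MulAut.conj m₀).toMonoidHom).subgroupOf V).Normal :=
      (Subgroup.normal_subgroupOf_iff_le_normalizer hmV).2 ((hVE.2.1.trans
        (Subgroup.centralizer_le (show (_ : Set G) ⊆ V from hmV))).trans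
        (Subgroup.centralizer_le_normalizer _))
    have h := Subgroup.relIndex_dvd_index_of_normal ((Z.map (MulAut.conj m₀).toMonoidHom).subgroupOf V)
      (Z.subgroupOf V)
    rw [Subgroup.subgroupOf, Subgroup.relIndex_comap, Subgroup.map_subgroupOf_eq_of_le hZV] at h
    have h2 : ((Z.map (MulAut.conj m₀).toMonoidHom).comap V.subtype).index = 2 := by
      have h3 := relIndex_mul_card hmV
      rw [Subgroup.card_map_of_injective (MulAut.conj m₀).injective, hVcard, mul_comm 2] at h3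
      exact Nat.eq_of_mul_eq_mul_left Nat.card_pos h3
    rw [h2] at h
    have h4 := card_mul_relIndex_inf (Z.map (MulAut.conj m₀).toMonoidHom) Z
    rw [inf_comm] at h4
    have h5 := Nat.le_of_dvd two_pos h
    rw [hVcard, ← h4, hW]
    nlinarith
  -- one element outside `W` in each conjugate
  have hout : ∀ i : M ⧸ J.subgroupOf M, ∃ x, x ∈ Z.map (MulAut.conj (i.out : G)).toMonoidHom ∧ x ∉ W := by
    intro i
    by_contra h
    push Not at h
    have hle : Z.map (MulAut.conj (i.out : G)).toMonoidHom ≤ W := h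
    have hcard : Nat.card Z ≤ Nat.card W := by
      rw [← Subgroup.card_map_of_injective (K := Z) (f := (MulAut.conj (i.out : G)).toMonoidHom)
        (MulAut.conj (i.out : G)).injective]
      exact Subgroup.card_le_of_le hle
    have hZW : W = Z := Subgroup.eq_of_le_of_card_ge inf_le_left hcard
    rw [hZW] at hWc
    exact hZn (hWc.trans (Subgroup.centralizer_le_normalizer _))
  choose x hxmem hxW using hout
  have hWall : ∀ m ∈ M, W ≤ Z.map (MulAut.conj m).toMonoidHom := fun m hm w hw =>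
    ⟨w, hw.1, by
      show m * w * m⁻¹ = w
      rw [mul_inv_eq_iff_eq_mul]
      exact (Subgroup.mem_centralizer_iff.1 (hWc hm) w hw).symm⟩
  let f : (M ⧸ J.subgroupOf M) × W → {v : V // (v : G) ∉ W} := fun p =>
    ⟨⟨x p.1 * p.2, mul_mem (by
      obtain ⟨z, hz, hzx⟩ := hxmem p.1
      exact hzx ▸ hconjV _ p.1.out.2 z hz) (hWV p.2.2)⟩,
      fun h => hxW p.1 ((Subgroup.mul_mem_cancel_right W p.2.2).1 h)⟩
  have hf : Function.Injective f := by
    rintro ⟨i, w⟩ ⟨j, w'⟩ h
    have he : x i * (w : G) = x j * w' := congrArg (fun v : {v : V // (v : G) ∉ W} => ((v : V) : G)) h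
    suffices hij : i = j by
      subst hij
      exact Prod.ext rfl (Subtype.ext (mul_left_cancel he))
    by_contra hij
    have hxi : x i ∈ Z.map (MulAut.conj (j.out : G)).toMonoidHom := by
      rw [show x i = x j * w' * (w : G)⁻¹ by rw [← he, mul_inv_cancel_right]]
      exact mul_mem (mul_mem (hxmem j) (hWall _ j.out.2 w'.2)) (inv_mem (hWall _ j.out.2 w.2))
    -- the two conjugates coincide
    set Zi := Z.map (MulAut.conj (i.out : G)).toMonoidHom
    set Zj := Z.map (MulAut.conj (j.out : G)).toMonoidHom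
    have hZi : Nat.card Zi = Nat.card Z := Subgroup.card_map_of_injective (MulAut.conj _).injective
    have hZj : Nat.card Zj = Nat.card Z := Subgroup.card_map_of_injective (MulAut.conj _).injective
    have hWij : W ≤ Zi ⊓ Zj := le_inf (hWall _ i.out.2) (hWall _ j.out.2)
    have hlt : Nat.card W < Nat.card (Zi ⊓ Zj : Subgroup G) := by
      refine lt_of_le_of_ne (Subgroup.card_le_of_le hWij) fun h => hxW i ?_
      rw [Subgroup.eq_of_le_of_card_ge hWij h.ge]
      exact ⟨hxmem i, hxi⟩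
    have h1 := relIndex_mul_card hWij
    have h1' : 2 ≤ W.relIndex (Zi ⊓ Zj) := by
      by_contra hh
      have : W.relIndex (Zi ⊓ Zj) ≤ 1 := by omega
      nlinarith
    have hbig : Nat.card Z ≤ Nat.card (Zi ⊓ Zj : Subgroup G) := by nlinarith
    have hii : Zi ⊓ Zj = Zi := Subgroup.eq_of_le_of_card_ge inf_le_left (hZi ▸ hbig)
    have heq : Zi = Zj := Subgroup.eq_of_le_of_card_ge (hii ▸ inf_le_right) (hZj.trans hZi.symm).le
    refine hij ?_
    rw [← QuotientGroup.out_eq' i, ← QuotientGroup.out_eq' j, QuotientGroup.eq, Subgroup.mem_subgroupOf]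
    refine hNZ _ ((i.out⁻¹ * j.out : M)).2 fun z hz => ?_
    obtain ⟨y, hy, hye⟩ := heq.ge ⟨z, hz, rfl⟩
    have hye' : (i.out : G) * y * (i.out : G)⁻¹ = (j.out : G) * z * (j.out : G)⁻¹ := hye
    have : ((i.out⁻¹ * j.out : M) : G) * z * ((i.out⁻¹ * j.out : M) : G)⁻¹ = y := by
      rw [Subgroup.coe_mul, Subgroup.coe_inv]
      calc (i.out : G)⁻¹ * (j.out : G) * z * ((i.out : G)⁻¹ * (j.out : G))⁻¹
          = (i.out : G)⁻¹ * ((j.out : G) * z * (j.out : G)⁻¹) * (i.out : G) := by group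
        _ = (i.out : G)⁻¹ * ((i.out : G) * y * (i.out : G)⁻¹) * (i.out : G) := by rw [hye']
        _ = y := by group
    rwa [this]
  haveI := Fintype.ofFinite V
  haveI := Fintype.ofFinite W
  have hcount := Nat.card_le_card_of_injective f hf
  rw [Nat.card_prod, ← Subgroup.index, show (J.subgroupOf M).index = q from hJq] at hcount
  have hcompl : Nat.card {v : V // (v : G) ∉ W} + Nat.card W = Nat.card V := by
    rw [← Nat.card_congr (Equiv.sumCompl fun v : V => (v : G) ∈ W), Nat.card_sum, add_comm,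
      Nat.card_congr (Subgroup.subgroupOfEquivOfLe hWV).toEquiv.symm]
    rfl
  have hpos : 0 < Nat.card W := Nat.card_pos
  nlinarith

end CfsgLib.ThompsonWielandt
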