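import Cfsg.Agent.Lib.ThompsonWielandt.PSubgroup

/-!
# Two point stabilisers of a primitive group
-/

set_option autoImplicit false

namespace CfsgLib.ThompsonWielandt

theorem primitive_pair {G Ω : Type*} [Group G] [Finite G] [MulAction G Ω] [FaithfulSMul G Ω]
    [Finite Ω] (hprim : MulAction.IsPreprimitive G Ω) (a b : Ω) {d : ℕ}
    (hd : Nat.card (MulAction.orbit (MulAction.stabilizer G a) b) = d) (h2 : 2 ≤ d) :
    Pair (MulAction.stabilizer G a) (MulAction.stabilizer G b) ∧
      Nonempty (MulAction.stabilizer G a ≃* MulAction.stabilizer G b) ∧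
      (MulAction.stabilizer G a ⊓ MulAction.stabilizer G b).relIndex (MulAction.stabilizer G a) = d ∧
      (MulAction.stabilizer G a ⊓ MulAction.stabilizer G b).relIndex (MulAction.stabilizer G b) = d := by
  classical
  haveI := hprim
  set A := MulAction.stabilizer G a with hA
  set B := MulAction.stabilizer G b with hB
  have hcardO : A ≠ B ∧ b ≠ a := by
    have hfix : (∀ k : A, (k : G) • b = b) → False := by
      intro h
      have : Subsingleton (MulAction.orbit A b) := by
        constructor
        rintro ⟨x, k, rfl⟩ ⟨y, l, rfl⟩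
        exact Subtype.ext ((h k).trans (h l).symm)
      rw [Nat.card_of_subsingleton (⟨b, MulAction.mem_orbit_self b⟩ : MulAction.orbit A b)] at hd
      omega
    refine ⟨fun h => hfix fun k => ?_, fun h => hfix fun k => ?_⟩
    · exact MulAction.mem_stabilizer_iff.mp (show (k : G) ∈ B from h.le k.2)
    · rw [h]; exact k.2
  haveI : Nontrivial Ω := ⟨b, a, hcardO.2⟩
  have hcoA : IsCoatom A := (MulAction.isCoatom_stabilizer_iff_preprimitive (G := G) a).mpr hprim
  have hcoB : IsCoatom B := (MulAction.isCoatom_stabilizer_iff_preprimitive (G := G) b).mpr hprim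
  have hcore : ∀ c : Ω, (MulAction.stabilizer G c).normalCore = ⊥ := by
    intro c
    rw [eq_bot_iff]
    intro k hk
    rw [Subgroup.mem_bot]
    apply eq_of_smul_eq_smul (α := Ω)
    intro x
    obtain ⟨g, rfl⟩ := MulAction.exists_smul_eq G c x
    have h1 : g⁻¹ * k * g⁻¹⁻¹ ∈ MulAction.stabilizer G c := hk g⁻¹
    rw [inv_inv, MulAction.mem_stabilizer_iff, mul_smul, mul_smul, inv_smul_eq_iff] at h1
    rw [h1, one_smul]
  obtain ⟨g, hg⟩ := MulAction.exists_smul_eq G a b
  have hconj : B = A.map (MulAut.conj g).toMonoidHom := by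
    rw [hA, hB, ← hg]; exact MulAction.stabilizer_smul_eq_stabilizer_map_conj g a
  have e : A ≃* B :=
    (A.equivMapOfInjective (MulAut.conj g).toMonoidHom (MulAut.conj g).injective).trans
      (MulEquiv.subgroupCongr hconj.symm)
  have hdA : (A ⊓ B).relIndex A = d := by
    rw [Subgroup.inf_relIndex_left]
    change (MulAction.stabilizer A b).index = d
    rw [MulAction.index_stabilizer, ← Nat.card_coe_set_eq, hd]
  have hdB : (A ⊓ B).relIndex B = d := by
    have e1 : Nat.card (A ⊓ B : Subgroup G) * (A ⊓ B).relIndex A = Nat.card A := by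
      rw [← (Subgroup.subgroupOfEquivOfLe (inf_le_left : A ⊓ B ≤ A)).toEquiv |> Nat.card_congr]
      exact Subgroup.card_mul_index _
    have e2 : Nat.card (A ⊓ B : Subgroup G) * (A ⊓ B).relIndex B = Nat.card B := by
      rw [← (Subgroup.subgroupOfEquivOfLe (inf_le_right : A ⊓ B ≤ B)).toEquiv |> Nat.card_congr]
      exact Subgroup.card_mul_index _
    rw [← Nat.card_congr e.toEquiv, ← e1, hdA] at e2
    exact Nat.eq_of_mul_eq_mul_left Nat.card_pos e2
  exact ⟨⟨hcoA, hcoB, hcore a, hcore b, hcardO.1⟩, ⟨e⟩, hdA, hdB⟩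

end CfsgLib.ThompsonWielandt
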